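import Cfsg.Agent.Lib.StructC.ClassCoprime

/-!
Class sizes: isolated sizes and their centralisers, sets of prescribed centraliser order, and passage
to the central quotient.
-/

set_option autoImplicit false
set_option linter.unusedSectionVars false
set_option linter.style.haveILetI false

namespace CfsgLib.Recog.ClassPSL

open CfsgLib.StructC.ClassCoprime
open scoped Classical

universe u

variable {G : Type u} [Group G] [Finite G]

local notation "cen(" x ")" => Subgroup.centralizer ({x} : Set G)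
local notation "Z" => Subgroup.center G

/-- No other class size properly divides, or is a proper multiple of, `d`. -/
def Isolated (G : Type u) [Group G] (d : ℕ) : Prop :=
  ∀ x : G, x ∉ Subgroup.center G → (d ∣ cs x ∨ cs x ∣ d) → cs x = d

theorem cs_dvd_of_le {x y : G} (h : cen(x) ≤ cen(y)) : cs y ∣ cs x := Subgroup.index_dvd_of_le h

theorem eq_of_le_of_cs_eq {x y : G} (h : cen(x) ≤ cen(y)) (he : cs x = cs y) : cen(x) = cen(y) := by
  refine Subgroup.eq_of_le_of_card_ge h (le_of_eq ?_)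
  have h1 := cen(x).card_mul_index
  have h2 := cen(y).card_mul_index
  rw [show cen(x).index = cen(y).index from he, ← h2] at h1
  exact (mul_right_cancel₀ Subgroup.index_ne_zero_of_finite h1).symm

theorem Isolated.cen_eq {d : ℕ} (hd : Isolated G d) {x y : G} (hx : cs x = d) (hy : y ∉ Z)
    (h : cen(x) ≤ cen(y)) : cs y = d ∧ cen(x) = cen(y) := by
  have h1 := hd y hy (Or.inr (hx ▸ cs_dvd_of_le h))
  exact ⟨h1, eq_of_le_of_cs_eq h (hx.trans h1.symm)⟩

theorem mem_zpowers_pow {x : G} {n : ℕ} (h : (orderOf x).Coprime n) : x ∈ Subgroup.zpowers (x ^ n) := by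
  obtain ⟨m, hm⟩ := exists_pow_eq_self_of_coprime h.symm
  exact Subgroup.mem_zpowers_iff.2 ⟨m, by rw [zpow_natCast]; exact hm⟩

theorem mem_center_of_coprime {x : G} {n : ℕ} (h : (orderOf x).Coprime n) (hn : x ^ n ∈ Z) : x ∈ Z :=
  Subgroup.zpowers_le.2 hn (mem_zpowers_pow h)

/-- The centraliser of a product of commuting elements of coprime orders. -/
theorem cen_mul_le {x w : G} (hxw : Commute x w) (h : (orderOf x).Coprime (orderOf w)) :
    cen(x * w) ≤ cen(x) := fun g hg => by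
  rw [mem_cent] at hg ⊢
  have h1 : Commute g ((x * w) ^ orderOf w) := Commute.pow_right hg _
  rw [hxw.mul_pow, pow_orderOf_eq_one, mul_one] at h1
  obtain ⟨m, hm⟩ := exists_pow_eq_self_of_coprime h.symm
  have h2 := h1.pow_right m
  rwa [hm] at h2

/-- Elements of order prime to `r` in the centraliser of an `r`-element of isolated size are central in it. -/
theorem Isolated.central_of_coprime {d : ℕ} (hd : Isolated G d) {x₀ w : G} (hx : x₀ ∉ Z) (hx₀ : cs x₀ = d)
    (hw : w ∈ cen(x₀)) (hco : (orderOf x₀).Coprime (orderOf w)) : cen(x₀) ≤ cen(w) := by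
  have hc : Commute x₀ w := (mem_cent.1 hw).symm
  have hle := cen_mul_le hc hco
  have hne : x₀ * w ∉ Z := fun h => hx <| mem_center_of_coprime hco (by
    have := pow_mem h (orderOf w)
    rwa [hc.mul_pow, pow_orderOf_eq_one, mul_one] at this)
  have h1 := hd _ hne (Or.inl (hx₀ ▸ cs_dvd_of_le hle))
  rw [← eq_of_le_of_cs_eq hle (h1.trans hx₀.symm)]
  rw [hc.eq]
  exact cen_mul_le hc.symm hco.symm

/-- A noncentral element has a noncentral primary power. -/
theorem exists_primary_notMem {x : G} {K : Subgroup G} (hx : x ∉ K) :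
    ∃ k r i : ℕ, r.Prime ∧ x ^ k ∉ K ∧ orderOf (x ^ k) = r ^ i := by
  by_contra h
  push Not at h
  exact hx (mem_of_primary fun k r hr ⟨i, hi⟩ => by
    by_contra hk
    exact h k r i hr hk hi)

theorem cen_le_pow (x : G) (k : ℕ) : cen(x) ≤ cen(x ^ k) := fun _ hg =>
  mem_cent.2 (Commute.pow_right (mem_cent.1 hg) k)

/-- The centraliser of an element of isolated size is abelian, or a prime power group modulo the centre. -/
theorem Isolated.structure {d : ℕ} (hd : Isolated G d) {x : G} (hx : x ∉ Z) (hxd : cs x = d) :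
    (∀ a ∈ cen(x), ∀ b ∈ cen(x), a * b = b * a) ∨
      ∃ r : ℕ, r.Prime ∧ ∀ w ∈ cen(x), ∃ i : ℕ, w ^ r ^ i ∈ Z := by
  obtain ⟨k, r, i, hr, hk, hi⟩ := exists_primary_notMem hx
  obtain ⟨hk', hkC⟩ := hd.cen_eq hxd hk (cen_le_pow x k)
  by_cases hall : ∀ w ∈ cen(x), (orderOf w).Coprime r → w ∈ Z
  · refine Or.inr ⟨r, hr, fun w hw => ?_⟩
    refine ⟨(orderOf w).factorization r, hall _ (pow_mem hw _) ?_⟩
    rw [orderOf_pow_of_dvd (pow_pos hr.pos _).ne' (Nat.ordProj_dvd _ _)]
    exact (Nat.coprime_ordCompl hr (orderOf_pos w).ne').symm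
  push Not at hall
  obtain ⟨w, hw, hwr, hwZ⟩ := hall
  obtain ⟨m, l, j, hl, hm, hj⟩ := exists_primary_notMem hwZ
  have hco : ∀ v : G, (orderOf v).Coprime r → (orderOf (x ^ k)).Coprime (orderOf v) := fun v hv => by
    rw [hi]; exact (hv.symm).pow_left i
  have hmr : (orderOf (w ^ m)).Coprime r := hwr.coprime_dvd_left (orderOf_pow_dvd m)
  have hwm : w ^ m ∈ cen(x) := pow_mem hw m
  have hle := hd.central_of_coprime hk hk' (hkC ▸ hwm) (hco _ hmr)
  obtain ⟨hm', hmC⟩ := hd.cen_eq hk' hm hle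
  have hlr : l ≠ r := by
    rintro rfl
    rcases Nat.eq_zero_or_pos j with rfl | hj0
    · exact hm (by rw [pow_zero, orderOf_eq_one_iff] at hj; rw [hj]; exact one_mem _)
    · rw [hj, Nat.coprime_pow_left_iff hj0, Nat.coprime_self] at hmr
      exact hl.ne_one hmr
  refine Or.inl fun a ha b hb => ?_
  suffices a ∈ Subgroup.centralizer (cen(x) : Set G) from (Subgroup.mem_centralizer_iff.1 this b hb).symm
  refine mem_of_primary fun e s hs ⟨o, ho⟩ => ?_
  have hae : a ^ e ∈ cen(x) := pow_mem ha e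
  refine Subgroup.mem_centralizer_iff.2 fun g hg => ?_
  have key : cen(x) ≤ cen(a ^ e) := by
    by_cases hsr : s = r
    · rw [hkC, hmC]
      refine hd.central_of_coprime hm hm' (by rw [← hmC, ← hkC]; exact hae) ?_
      rw [hj, ho, hsr]
      exact ((Nat.coprime_primes hl hr).2 hlr).pow j o
    · rw [hkC]
      refine hd.central_of_coprime hk hk' (hkC ▸ hae) (hco _ ?_)
      rw [ho]
      exact ((Nat.coprime_primes hs hr).2 hsr).pow_left o
  exact mem_cent.1 (key hg)

/-- The order of the centraliser modulo the centre. -/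
noncomputable def nc (x : G) : ℕ := (Subgroup.center G).relIndex (Subgroup.centralizer ({x} : Set G))

theorem nc_mul_cs (x : G) : nc x * cs x = (Subgroup.center G).index :=
  Subgroup.relIndex_mul_index (center_le_cent x)

theorem pow_nc_mem {x w : G} (hw : w ∈ cen(x)) : w ^ nc x ∈ Z :=
  Subgroup.mem_subgroupOf.1 (((Subgroup.center G).subgroupOf cen(x)).pow_index_mem ⟨w, hw⟩)

theorem exists_pElement {x : G} {r : ℕ} (hr : r.Prime) (h : r ∣ nc x) :
    ∃ z ∈ cen(x), z ∉ Z ∧ IsPGroup r (Subgroup.zpowers z) := by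
  haveI := Fact.mk hr
  haveI : ((Subgroup.center G).subgroupOf cen(x)).Normal := inferInstance
  obtain ⟨y, hy⟩ := exists_prime_orderOf_dvd_card' (G := cen(x) ⧸ (Subgroup.center G).subgroupOf cen(x)) r
    (by rw [← Subgroup.index_eq_card]; exact h)
  obtain ⟨w, rfl⟩ := QuotientGroup.mk_surjective y
  obtain ⟨k, i, hk, hi⟩ := exists_primary_pow (w : G) hr
  refine ⟨(w : G) ^ k, pow_mem w.2 k, fun hZ => ?_, IsPGroup.of_card (n := i) (by rw [Nat.card_zpowers, hi])⟩
  have h1 : ((w : cen(x) ⧸ (Subgroup.center G).subgroupOf cen(x))) ^ k = 1 := by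
    rw [← QuotientGroup.mk_pow, QuotientGroup.eq_one_iff, Subgroup.mem_subgroupOf, SubgroupClass.coe_pow]
    exact hZ
  exact hk (hy ▸ orderOf_dvd_of_pow_eq_one h1)

/-- An isolated size containing `r` and another prime modulo the centre forces every size prime to `r` to equal it. -/
theorem Isolated.not_dvd_nc {d : ℕ} (hd : Isolated G d) {x y : G} (hx : x ∉ Z) (hxd : cs x = d) {r l : ℕ}
    (hr : r.Prime) (hl : l.Prime) (hlr : l ≠ r) (hln : l ∣ nc x) (hy : y ∉ Z) (hyd : cs y ≠ d)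
    (hyr : ¬ r ∣ cs y) : ¬ r ∣ nc x := by
  intro hrn
  haveI := Fact.mk hr
  obtain ⟨z, hzC, hzZ, hzp⟩ := exists_pElement hr hrn
  rcases hd.structure hx hxd with hab | ⟨s, hs, hsw⟩
  · obtain ⟨hz', hzC'⟩ := hd.cen_eq hxd hzZ fun g hg => mem_cent.2 (hab g hg z hzC)
    obtain ⟨S₀⟩ : Nonempty (Sylow r cen(y)) := inferInstance
    have hS₀ : Nat.card ((S₀ : Subgroup cen(y)).map cen(y).subtype) = r ^ (Nat.card G).factorization r := by
      rw [Subgroup.card_map_of_injective cen(y).subtype_injective, S₀.card_eq_multiplicity,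
        ← cen(y).card_mul_index, Nat.factorization_mul Nat.card_pos.ne' Subgroup.index_ne_zero_of_finite,
        Finsupp.add_apply, Nat.factorization_eq_zero_of_not_dvd hyr, add_zero]
    obtain ⟨R, hzR⟩ := hzp.exists_le_sylow
    obtain ⟨g, hg⟩ := MulAction.exists_smul_eq G R (Sylow.ofCard _ hS₀)
    have hz2 : g * z * g⁻¹ ∈ cen(y) := by
      have h1 : MulAut.conj g z ∈ ((g • R : Sylow r G) : Subgroup G) :=
        Subgroup.smul_mem_pointwise_smul z (MulAut.conj g) _ (hzR (Subgroup.mem_zpowers z))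
      rw [hg] at h1
      exact Subgroup.map_subtype_le _ h1
    have hzg : g * z * g⁻¹ ∉ Z := fun h => hzZ (by
      have := (inferInstance : (Subgroup.center G).Normal).conj_mem _ h g⁻¹
      simpa [mul_assoc] using this)
    have hcs : cs (g * z * g⁻¹) = d := by
      rw [← ncard_cl, ← hz', ← ncard_cl]
      congr 1
      ext v
      constructor
      · rintro ⟨c, rfl⟩; exact ⟨c * g, by group⟩
      · rintro ⟨c, rfl⟩; exact ⟨c * g⁻¹, by group⟩
    obtain ⟨h1, -⟩ := hd.cen_eq hcs hy fun v hv => by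
      rw [mem_cent] at hv ⊢
      have hab' : (g⁻¹ * v * g) * (g⁻¹ * y * g) = (g⁻¹ * y * g) * (g⁻¹ * v * g) := by
        refine hab _ ?_ _ ?_ <;> rw [hzC', mem_cent]
        · calc g⁻¹ * v * g * z = g⁻¹ * (v * (g * z * g⁻¹)) * g := by group
            _ = g⁻¹ * (g * z * g⁻¹ * v) * g := by rw [hv]
            _ = z * (g⁻¹ * v * g) := by group
        · calc g⁻¹ * y * g * z = g⁻¹ * (y * (g * z * g⁻¹)) * g := by group
            _ = g⁻¹ * (g * z * g⁻¹ * y) * g := by rw [mem_cent.1 hz2]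
            _ = z * (g⁻¹ * y * g) := by group
      calc v * y = g * ((g⁻¹ * v * g) * (g⁻¹ * y * g)) * g⁻¹ := by group
        _ = g * ((g⁻¹ * y * g) * (g⁻¹ * v * g)) * g⁻¹ := by rw [hab']
        _ = y * v := by group
    exact hyd h1
  · have key : ∀ p : ℕ, p.Prime → p ∣ nc x → p = s := fun p hp hpn => by
      haveI := Fact.mk hp
      obtain ⟨w, hw, hwZ, hwp⟩ := exists_pElement hp hpn
      obtain ⟨i, hi⟩ := hsw w hw
      by_contra hne
      obtain ⟨j, hj⟩ := IsPGroup.iff_card.1 hwp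
      rw [Nat.card_zpowers] at hj
      exact hwZ (mem_center_of_coprime (by rw [hj]; exact ((Nat.coprime_primes hp hs).2 hne).pow j i) hi)
    exact hlr ((key l hl hln).trans (key r hr hrn).symm)

/-- The number of elements with a prescribed centraliser order, in a set closed under conjugation. -/
theorem card_dvd_mul (P : G → Prop) (hP : ∀ g h : G, P g → P (h * g * h⁻¹)) (v : ℕ) :
    Nat.card G ∣ v * Nat.card {g : G // P g ∧ Nat.card cen(g) = v} := by
  set S : Set G := {g | P g ∧ Nat.card cen(g) = v}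
  haveI : Fintype (Set G) := Fintype.ofFinite _
  have hS : ∀ g ∈ S, cl g ⊆ S := by
    rintro g ⟨hg, hv⟩ _ ⟨c, rfl⟩
    refine ⟨hP g c hg, ?_⟩
    rw [← hv]
    refine (Nat.card_congr ((MulAut.conj c).toEquiv.subtypeEquiv fun x => ?_)).symm
    rw [mem_cent, mem_cent, MulEquiv.toEquiv_eq_coe, MulEquiv.coe_toEquiv, MulAut.conj_apply]
    constructor
    · intro h
      calc c * x * c⁻¹ * (c * g * c⁻¹) = c * (x * g) * c⁻¹ := by group
        _ = c * (g * x) * c⁻¹ := by rw [h]
        _ = c * g * c⁻¹ * (c * x * c⁻¹) := by group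
    · intro h
      calc x * g = c⁻¹ * (c * x * c⁻¹ * (c * g * c⁻¹)) * c := by group
        _ = c⁻¹ * (c * g * c⁻¹ * (c * x * c⁻¹)) * c := by rw [h]
        _ = g * x := by group
  have key : ∀ g ∈ S, v * (cl g).ncard = Nat.card G := fun g hg => by
    rw [ncard_cl, ← hg.2]; exact cen(g).card_mul_index
  haveI : Fintype S := Fintype.ofFinite _
  have hsum : Nat.card S = ∑ C ∈ S.toFinset.image cl, C.ncard := by
    rw [Nat.card_eq_fintype_card, ← Set.toFinset_card, Finset.card_eq_sum_card_image cl]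
    refine Finset.sum_congr rfl fun C hC => ?_
    obtain ⟨g, hg, rfl⟩ := Finset.mem_image.1 hC
    rw [Set.mem_toFinset] at hg
    rw [← Set.ncard_coe_finset]
    congr 1
    ext h
    rw [Finset.coe_filter, Set.mem_ofPred_eq, Set.mem_toFinset]
    constructor
    · rintro ⟨-, e⟩; rw [← e]; exact mem_cl_self h
    · intro hh
      refine ⟨hS g hg hh, ?_⟩
      obtain ⟨c, rfl⟩ := hh
      ext k
      constructor
      · rintro ⟨e, rfl⟩; exact ⟨e * c, by group⟩
      · rintro ⟨e, rfl⟩; exact ⟨e * c⁻¹, by group⟩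
  show Nat.card G ∣ v * Nat.card S
  rw [hsum, Finset.mul_sum]
  refine Finset.dvd_sum fun C hC => ?_
  obtain ⟨g, hg, rfl⟩ := Finset.mem_image.1 hC
  rw [key g (Set.mem_toFinset.1 hg)]

/-- The class size in the central quotient, and the index measuring commuting elements that do not lift. -/
theorem cs_quotient (x : G) :
    ∃ j : ℕ, cs (x : G ⧸ Z) * j = cs x ∧
      (∀ l : ℕ, l.Prime → l ∣ j → l ∣ orderOf (x : G ⧸ Z)) ∧
      (j = 1 → ∀ w : G, Commute (w : G ⧸ Z) (x : G ⧸ Z) → w * x = x * w) := by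
  set π := QuotientGroup.mk' (Subgroup.center G)
  set D := (Subgroup.centralizer ({π x} : Set (G ⧸ Z))).comap π
  have hD : ∀ w, w ∈ D ↔ Commute (π w) (π x) := fun w => by
    rw [Subgroup.mem_comap, mem_cent]; rfl
  have hle : cen(x) ≤ D := fun w hw => (hD w).2 (by
    show π w * π x = π x * π w
    rw [← map_mul, ← map_mul, mem_cent.1 hw])
  have hDi : D.index = cs (π x) := Subgroup.index_comap_of_surjective _ (QuotientGroup.mk'_surjective _)
  refine ⟨cen(x).relIndex D, ?_, ?_, fun h1 w hw => mem_cent.1 (Subgroup.relIndex_eq_one.1 h1 ((hD w).2 hw))⟩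
  · show cs (π x) * _ = cs x
    rw [← hDi, mul_comm]
    exact Subgroup.relIndex_mul_index hle
  intro l hl hlj
  have hzc : ∀ w ∈ D, x⁻¹ * (w * x * w⁻¹) ∈ Z := fun w hw => by
    rw [← QuotientGroup.eq_one_iff]
    show π _ = 1
    rw [map_mul, map_mul, map_mul, map_inv, map_inv, ((hD w).1 hw).eq, mul_inv_cancel_right, inv_mul_cancel]
  let ψ : D →* Z := MonoidHom.mk' (fun w => ⟨_, hzc w w.2⟩) fun a b => by
    apply Subtype.ext
    show x⁻¹ * ((a : G) * b * x * ((a : G) * b)⁻¹) = x⁻¹ * (a * x * (a : G)⁻¹) * (x⁻¹ * (b * x * (b : G)⁻¹))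
    have hb := Subgroup.mem_center_iff.1 (hzc b b.2) ((a : G) * x)
    calc x⁻¹ * ((a : G) * b * x * ((a : G) * b)⁻¹)
        = x⁻¹ * ((a : G) * x * (x⁻¹ * (b * x * (b : G)⁻¹)) * (a : G)⁻¹) := by group
      _ = x⁻¹ * (x⁻¹ * (b * x * (b : G)⁻¹) * ((a : G) * x) * (a : G)⁻¹) := by rw [hb]
      _ = _ := by
        rw [mul_assoc (x⁻¹ * (b * x * (b : G)⁻¹)), ← Subgroup.mem_center_iff.1 (hzc b b.2) ((a : G) * x * (a : G)⁻¹),
          ← mul_assoc x⁻¹]
  have hk : ψ.ker = cen(x).subgroupOf D := by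
    ext w
    rw [MonoidHom.mem_ker, Subgroup.mem_subgroupOf, mem_cent, ← Subtype.coe_inj]
    show x⁻¹ * ((w : G) * x * (w : G)⁻¹) = 1 ↔ _
    rw [inv_mul_eq_one, eq_mul_inv_iff_mul_eq]
    exact eq_comm
  have hcard : Nat.card ψ.range = cen(x).relIndex D := by
    rw [Subgroup.relIndex, ← hk, Subgroup.index_ker]
  haveI := Fact.mk hl
  obtain ⟨⟨_, w, rfl⟩, hz⟩ := exists_prime_orderOf_dvd_card' (G := ψ.range) l (hcard ▸ hlj)
  rw [← Subgroup.orderOf_coe] at hz
  rw [← hz]
  refine orderOf_dvd_of_pow_eq_one (Subtype.ext ?_)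
  set n := orderOf (x : G ⧸ Z)
  have hxn : x ^ n ∈ Z := (QuotientGroup.eq_one_iff _).1 (by rw [QuotientGroup.mk_pow]; exact pow_orderOf_eq_one _)
  have hc : Commute x (x⁻¹ * ((w : G) * x * (w : G)⁻¹)) := Subgroup.mem_center_iff.1 (hzc w w.2) x
  have e : ((w : G) * x * (w : G)⁻¹) ^ n = x ^ n := by
    rw [conj_pow, Subgroup.mem_center_iff.1 hxn (w : G), mul_inv_cancel_right]
  show (x⁻¹ * ((w : G) * x * (w : G)⁻¹)) ^ n = 1
  rw [← mul_right_inj (x ^ n), ← hc.mul_pow, mul_inv_cancel_left, e, mul_one]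

end CfsgLib.Recog.ClassPSL
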