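import Cfsg.Agent.Lib.Recog.ClassPSL.Invol
import Mathlib.GroupTheory.Perm.Cycle.Type

/-!
The centraliser of an involution: an abelian subgroup of index two with one involution, inverted by
the involutions outside it.
-/

set_option autoImplicit false
set_option linter.unusedSectionVars false
set_option linter.style.haveILetI false

namespace CfsgLib.Recog.ClassPSL

open CfsgLib.StructC.ClassCoprime CfsgLib.Invol
open scoped _root_.Classical

universe u

variable {G : Type u} [Group G] [Fintype G] {q a b : ℕ}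

local notation "cen(" x ")" => Subgroup.centralizer ({x} : Set G)

/-- The involutions of `G`. -/
noncomputable def invols (G : Type u) [Group G] [Fintype G] : Finset G :=
  Finset.univ.filter fun v => orderOf v = 2

/-- The involutions commuting with `t`. -/
noncomputable def involCen (t : G) : Finset G := (invols G).filter fun v => v ∈ cen(t)

theorem mem_invols {v : G} : v ∈ invols G ↔ orderOf v = 2 := by simp [invols]

theorem mem_involCen {t v : G} : v ∈ involCen t ↔ orderOf v = 2 ∧ v ∈ cen(t) := by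
  simp [involCen, invols]

theorem mem_cent_symm {t v : G} : v ∈ cen(t) ↔ t ∈ cen(v) := by rw [mem_cent, mem_cent, eq_comm]

theorem conj_mem_cen {g x y : G} : g * x * g⁻¹ ∈ cen(g * y * g⁻¹) ↔ x ∈ cen(y) := by
  rw [cen_conj_map, mem_map_conj, show g⁻¹ * (g * x * g⁻¹) * g = x by group]

/-- An involution inverting an element commutes with some involution of its centraliser, if that has even order. -/
theorem exists_invol_both {t e : G} (ht : orderOf t = 2) (hte : t * e * t⁻¹ = e⁻¹)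
    (he : Even (Nat.card cen(e))) : ∃ z : G, orderOf z = 2 ∧ z ∈ cen(e) ∧ z ∈ cen(t) := by
  set C := cen(e)
  haveI : Fact (Nat.Prime 2) := ⟨Nat.prime_two⟩
  have htt := invol_mul_self ht
  have hmap : ∀ x ∈ C, t * x * t⁻¹ ∈ C := fun x hx => by
    have hC : cen(e⁻¹) = C := by
      ext w
      rw [mem_cent, mem_cent]
      exact Commute.inv_right_iff
    have h1 : t * x * t⁻¹ ∈ cen(t * e * t⁻¹) := conj_mem_cen.2 hx
    rwa [hte, hC] at h1
  let f : Function.End C := fun x => ⟨t * x * t⁻¹, hmap x x.2⟩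
  have hf : f ^ 2 ^ 1 = 1 := by
    rw [pow_one, pow_two]
    funext x
    refine Subtype.ext ?_
    show t * (t * (x : G) * t⁻¹) * t⁻¹ = x
    rw [show t * (t * (x : G) * t⁻¹) * t⁻¹ = (t * t) * x * (t * t)⁻¹ by group, htt, inv_one, one_mul, mul_one]
  have hmod := Equiv.Perm.card_fixedPoints_modEq (p := 2) hf
  let e' : Function.fixedPoints f ≃ (C ⊓ cen(t) : Subgroup G) :=
    { toFun := fun x => ⟨x.1, x.1.2, mem_cent.2 (by
        have h1 : t * (x.1 : G) * t⁻¹ = x.1 := congrArg Subtype.val x.2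
        calc (x.1 : G) * t = t * (x.1 : G) * t⁻¹ * t := by rw [h1]
          _ = t * x.1 := by group)⟩
      invFun := fun x => ⟨⟨x.1, x.2.1⟩, Subtype.ext (show t * (x.1 : G) * t⁻¹ = x.1 by
        rw [← mem_cent.1 x.2.2]; group)⟩
      left_inv := fun _ => rfl
      right_inv := fun _ => rfl }
  rw [← Nat.card_eq_fintype_card, ← Nat.card_eq_fintype_card, Nat.card_congr e'] at hmod
  have h2 : 2 ∣ Nat.card (C ⊓ cen(t) : Subgroup G) :=
    (Nat.modEq_zero_iff_dvd).1 (hmod.symm.trans (Nat.modEq_zero_iff_dvd.2 (even_iff_two_dvd.1 he)))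
  obtain ⟨z, hz2⟩ := exists_prime_orderOf_dvd_card' (G := (C ⊓ cen(t) : Subgroup G)) 2 h2
  rw [← Subgroup.orderOf_coe] at hz2
  exact ⟨z, hz2, z.2.1, z.2.2⟩

namespace Data

variable (d : Data G q a b) [IsSimpleGroup G]
include d

theorem card_invols : (invols G).card = q * a := d.card_invol

theorem involCen_card_eq {u w : G} (hu : orderOf u = 2) (hw : orderOf w = 2) :
    (involCen u).card = (involCen w).card := by
  obtain ⟨g, rfl⟩ := isConj_iff.1 (d.isConj_invol hu hw)
  rw [← Finset.card_image_of_injective (involCen u) (MulAut.conj g).injective]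
  congr 1
  ext v
  simp only [Finset.mem_image, mem_involCen, MulAut.conj_apply]
  constructor
  · rintro ⟨x, ⟨hx, hx'⟩, rfl⟩
    exact ⟨by rw [orderOf_conj_eq]; exact hx, conj_mem_cen.2 hx'⟩
  · rintro ⟨hv, hv'⟩
    refine ⟨g⁻¹ * v * g, ⟨by rw [orderOf_conj_inv_eq]; exact hv, ?_⟩, by group⟩
    rw [← conj_mem_cen (g := g), show g * (g⁻¹ * v * g) * g⁻¹ = v by group]
    exact hv'

theorem card_inverted_eq {u w : G} (hu : orderOf u = 2) (hw : orderOf w = 2) (v : ℕ) :
    (Finset.univ.filter fun y : G => y ≠ 1 ∧ Nat.card cen(y) = v ∧ u * y * u⁻¹ = y⁻¹).card =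
    (Finset.univ.filter fun y : G => y ≠ 1 ∧ Nat.card cen(y) = v ∧ w * y * w⁻¹ = y⁻¹).card := by
  obtain ⟨g, rfl⟩ := isConj_iff.1 (d.isConj_invol hu hw)
  rw [← Finset.card_image_of_injective (Finset.univ.filter fun y : G => y ≠ 1 ∧ Nat.card cen(y) = v ∧
    u * y * u⁻¹ = y⁻¹) (MulAut.conj g).injective]
  congr 1
  ext y
  simp only [Finset.mem_image, Finset.mem_filter, Finset.mem_univ, true_and, MulAut.conj_apply]
  constructor
  · rintro ⟨x, ⟨hx1, hx, hx'⟩, rfl⟩
    refine ⟨conj_ne_one hx1, by rw [card_cen_conj, hx], ?_⟩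
    calc g * u * g⁻¹ * (g * x * g⁻¹) * (g * u * g⁻¹)⁻¹ = g * (u * x * u⁻¹) * g⁻¹ := by group
      _ = (g * x * g⁻¹)⁻¹ := by rw [hx']; group
  · rintro ⟨hy1, hy, hy'⟩
    refine ⟨g⁻¹ * y * g, ⟨fun e => hy1 ?_, ?_, ?_⟩, by group⟩
    · rw [show y = g * (g⁻¹ * y * g) * g⁻¹ by group, e]; group
    · rw [← card_cen_conj g, show g * (g⁻¹ * y * g) * g⁻¹ = y by group, hy]
    · rw [show u * (g⁻¹ * y * g) * u⁻¹ = g⁻¹ * ((g * u * g⁻¹) * y * (g * u * g⁻¹)⁻¹) * g by group, hy']
      group

/-- Double counting the elements inverted by involutions. -/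
theorem sum_inverted {t : G} (ht : orderOf t = 2) (v : ℕ) :
    q * a * (Finset.univ.filter fun y : G => y ≠ 1 ∧ Nat.card cen(y) = v ∧ t * y * t⁻¹ = y⁻¹).card =
      ∑ y ∈ Finset.univ.filter (fun y : G => y ≠ 1 ∧ Nat.card cen(y) = v),
        ((invols G).filter fun w => w * y * w⁻¹ = y⁻¹).card := by
  rw [← d.card_invols, ← smul_eq_mul, ← Finset.sum_const]
  refine Eq.trans (Finset.sum_congr rfl fun w hw => ?_) (Finset.sum_card_bipartiteAbove_eq_sum_card_bipartiteBelow
    (s := invols G) (t := Finset.univ.filter fun y : G => y ≠ 1 ∧ Nat.card cen(y) = v)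
    fun w y => w * y * w⁻¹ = y⁻¹)
  rw [d.card_inverted_eq ht (mem_invols.1 hw), Finset.bipartiteAbove, Finset.filter_filter]
  simp only [and_assoc]

theorem card_inverted_a {t : G} (ht : orderOf t = 2) :
    (Finset.univ.filter fun y : G => y ≠ 1 ∧ Nat.card cen(y) = a ∧ t * y * t⁻¹ = y⁻¹).card = (a - 1) * b := by
  have h1 := d.sum_inverted ht a
  have hA : (Finset.univ.filter fun y : G => y ≠ 1 ∧ Nat.card cen(y) = a).card = (a - 1) * b * q := by
    rw [← Fintype.card_subtype, ← Nat.card_eq_fintype_card, d.counts_univ.2.1]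
  rw [Finset.sum_congr rfl (g := fun _ => a) (fun y hy => by
    obtain ⟨hy1, hya⟩ := (Finset.mem_filter.1 hy).2
    refine Eq.trans ?_ (d.card_inverting hy1 hya)
    rw [Nat.card_eq_fintype_card, Fintype.card_subtype, invols, Finset.filter_filter]), Finset.sum_const,
    smul_eq_mul, hA] at h1
  refine Nat.eq_of_mul_eq_mul_left (Nat.mul_pos d.toParams.q_pos d.toParams.a_pos) (h1.trans ?_)
  ring

theorem card_inverting_q_le {y : G} (hyq : Nat.card cen(y) = q) :
    ((invols G).filter fun w => w * y * w⁻¹ = y⁻¹).card ≤ q := by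
  rcases ((invols G).filter fun w => w * y * w⁻¹ = y⁻¹).eq_empty_or_nonempty with h | ⟨w₀, hw₀⟩
  · simp [h]
  rw [← hyq, Nat.card_eq_fintype_card, ← Finset.card_univ]
  obtain ⟨hw, hwy⟩ := Finset.mem_filter.1 hw₀
  refine Finset.card_le_card_of_injOn (fun w => if h : w₀ * w ∈ cen(y) then (⟨w₀ * w, h⟩ : cen(y)) else 1)
    (fun _ _ => Finset.mem_univ _) ?_
  have key : ∀ w, w * y * w⁻¹ = y⁻¹ → w₀ * w ∈ cen(y) := fun w h => mem_cent.2 (by
    have h2 : w₀ * w * y * (w₀ * w)⁻¹ = y := by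
      rw [show w₀ * w * y * (w₀ * w)⁻¹ = w₀ * (w * y * w⁻¹) * w₀⁻¹ by group, h, ← conj_inv, hwy, inv_inv]
    calc w₀ * w * y = w₀ * w * y * (w₀ * w)⁻¹ * (w₀ * w) := by group
      _ = y * (w₀ * w) := by rw [h2])
  intro u hu v hv h
  rw [Finset.mem_coe, Finset.mem_filter] at hu hv
  simp only [dif_pos (key u hu.2), dif_pos (key v hv.2), Subtype.mk.injEq] at h
  exact mul_left_cancel h

theorem card_inverted_q {t : G} (ht : orderOf t = 2) :
    (Finset.univ.filter fun y : G => y ≠ 1 ∧ Nat.card cen(y) = q ∧ t * y * t⁻¹ = y⁻¹).card ≤ 4 * b ∧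
    (b = a + 1 → (Finset.univ.filter fun y : G => y ≠ 1 ∧ Nat.card cen(y) = q ∧ t * y * t⁻¹ = y⁻¹).card = 0) := by
  refine ⟨?_, fun hab => ?_⟩
  · refine Nat.le_of_mul_le_mul_left ?_ (Nat.mul_pos d.toParams.q_pos d.toParams.a_pos)
    rw [d.sum_inverted ht q]
    refine (Finset.sum_le_card_nsmul _ _ q fun y hy => d.card_inverting_q_le (Finset.mem_filter.1 hy).2.2).trans ?_
    rw [smul_eq_mul, ← Fintype.card_subtype, ← Nat.card_eq_fintype_card, d.counts_univ.1]
    exact le_of_eq (by ring)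
  · rw [Finset.card_eq_zero, Finset.filter_eq_empty_iff]
    rintro y - ⟨_, hy, hy'⟩
    exact d.not_inverted_q hab hy ht hy'

/-- The involutions `v` with `t v` of even centraliser order. -/
theorem card_even_ge {t : G} (ht : orderOf t = 2) :
    b * (b - 1) ≤ (((invols G).erase t).filter fun v => Even (Nat.card cen(t * v))).card := by
  have htt := invol_mul_self ht
  set W : ℕ → Finset G := fun k => Finset.univ.filter fun y : G => y ≠ 1 ∧ Nat.card cen(y) = k ∧ t * y * t⁻¹ = y⁻¹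
  set T := ((invols G).erase t).filter fun v => Even (Nat.card cen(t * v))
  have hsub : (invols G).erase t ⊆ T ∪ (W a).image (t * ·) ∪ (W q).image (t * ·) := by
    intro v hv
    obtain ⟨hvt, hv'⟩ := Finset.mem_erase.1 hv
    have hv2 := mem_invols.1 hv'
    have hne : t * v ≠ 1 := fun e => hvt ((inv_eq_of_mul_eq_one_right e).symm.trans (invol_inv ht))
    have hinv := conj_left_mul ht hv2
    have hW : ∀ k, Nat.card cen(t * v) = k → v ∈ (W k).image (t * ·) := fun k hk =>
      Finset.mem_image.2 ⟨t * v, Finset.mem_filter.2 ⟨Finset.mem_univ _, hne, hk, hinv⟩,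
        by rw [← mul_assoc, htt, one_mul]⟩
    simp only [Finset.mem_union]
    rcases d.cases' _ hne with c | c | c | c
    · exact Or.inr (hW q c)
    · exact Or.inl (Or.inr (hW a c))
    · exact Or.inl (Or.inl (Finset.mem_filter.2 ⟨hv, c ▸ d.evenB⟩))
    · exact Or.inl (Or.inl (Finset.mem_filter.2 ⟨hv, c ▸ even_two_mul b⟩))
  have h1 := (Finset.card_le_card hsub).trans (Finset.card_union_le _ _)
  rw [Finset.card_erase_of_mem (mem_invols.2 ht), d.card_invols] at h1
  have h2 := Finset.card_union_le T ((W a).image (t * ·))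
  have h3 : ((W a).image (t * ·)).card ≤ (a - 1) * b := Finset.card_image_le.trans (d.card_inverted_a ht).le
  have hs := d.sum
  obtain ⟨h4, h5⟩ := d.card_inverted_q ht
  have h6 : ((W q).image (t * ·)).card ≤ (W q).card := Finset.card_image_le
  obtain ⟨b', rfl⟩ : ∃ b', b = b' + 1 := ⟨b - 1, by have := d.four; omega⟩
  rw [Nat.add_sub_cancel]
  rcases d.near with c | c
  · subst c
    rw [Nat.add_sub_cancel] at h3
    have e1 : q * (b' + 1 + 1) = (b' + 1) * b' + (b' + 1) * (b' + 1) + 4 * (b' + 1) + 1 := by rw [hs]; ring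
    have h7 : (W q).card ≤ 4 * (b' + 1) := h4
    omega
  · obtain rfl : a = b' := by omega
    have h7 : (W q).card = 0 := h5 c
    obtain ⟨a', rfl⟩ : ∃ a', a = a' + 1 := ⟨a - 1, by have := d.toParams.a_ge; omega⟩
    rw [Nat.add_sub_cancel] at h3
    have e1 : q * (a' + 1) = (a' + 1 + 1) * (a' + 1) + a' * (a' + 1 + 1) + 1 := by rw [hs]; ring
    omega

theorem card_even_le {t : G} (ht : orderOf t = 2) {i : ℕ} (hi : (involCen t).card = i + 1) :
    (((invols G).erase t).filter fun v => Even (Nat.card cen(t * v))).card ≤ i + i * (i - 2) := by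
  set H := involCen t
  have htH : t ∈ H := mem_involCen.2 ⟨ht, mem_cent.2 rfl⟩
  have hHe : (H.erase t).card = i := by rw [Finset.card_erase_of_mem htH, hi]; omega
  refine (Finset.card_le_card (t := H.erase t ∪ (H.erase t).biUnion fun z => involCen z \ H) ?_).trans
    ((Finset.card_union_le _ _).trans (Nat.add_le_add hHe.le ?_))
  · intro v hv
    obtain ⟨hv, hev⟩ := Finset.mem_filter.1 hv
    obtain ⟨hvt, hv'⟩ := Finset.mem_erase.1 hv
    have hv2 := mem_invols.1 hv'
    by_cases hvH : v ∈ H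
    · exact Finset.mem_union_left _ (Finset.mem_erase.2 ⟨hvt, hvH⟩)
    refine Finset.mem_union_right _ ?_
    obtain ⟨z, hz, hze, hzt⟩ := exists_invol_both ht (conj_left_mul ht hv2) hev
    have hzv : z ∈ cen(v) := by
      have h1 : t * (t * v) = v := by rw [← mul_assoc, invol_mul_self ht, one_mul]
      refine mem_cent.2 ?_
      conv_lhs => rw [← h1, ← mul_assoc, mem_cent.1 hzt, mul_assoc, mem_cent.1 hze, ← mul_assoc, h1]
    refine Finset.mem_biUnion.2 ⟨z, Finset.mem_erase.2 ⟨?_, mem_involCen.2 ⟨hz, hzt⟩⟩,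
      Finset.mem_sdiff.2 ⟨mem_involCen.2 ⟨hv2, mem_cent_symm.1 hzv⟩, hvH⟩⟩
    intro e
    exact hvH (mem_involCen.2 ⟨hv2, e ▸ mem_cent_symm.1 hzv⟩)
  · refine (Finset.card_biUnion_le.trans (Finset.sum_le_card_nsmul _ _ (i - 2) fun z hz => ?_)).trans
      (by rw [smul_eq_mul, hHe])
    obtain ⟨hzt, hzH⟩ := Finset.mem_erase.1 hz
    obtain ⟨hz2, hzc⟩ := mem_involCen.1 hzH
    have hc : z * t = t * z := mem_cent.1 hzc
    have h1 : z * t ≠ 1 := fun e => hzt ((inv_eq_of_mul_eq_one_left e).symm.trans (invol_inv ht))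
    have h3 : orderOf (z * t) = 2 := invol_of_mul_self (by
      rw [mul_assoc, ← mul_assoc t, ← hc, mul_assoc z t t, invol_mul_self ht, mul_one, invol_mul_self hz2]) h1
    have h2 : 3 ≤ (involCen z ∩ H).card := by
      refine le_trans (le_of_eq ?_) (Finset.card_le_card (s := {z, t, z * t}) ?_)
      · rw [Finset.card_insert_of_notMem, Finset.card_pair]
        · exact fun e => invol_ne_one hz2 (mul_eq_right.1 e.symm)
        · simp only [Finset.mem_insert, Finset.mem_singleton, not_or]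
          exact ⟨hzt, fun e => invol_ne_one ht (mul_eq_left.1 e.symm)⟩
      · intro w hw
        simp only [Finset.mem_insert, Finset.mem_singleton] at hw
        refine Finset.mem_inter.2 ?_
        rcases hw with rfl | rfl | rfl
        · exact ⟨mem_involCen.2 ⟨hz2, mem_cent.2 rfl⟩, hzH⟩
        · exact ⟨mem_involCen.2 ⟨ht, mem_cent_symm.1 hzc⟩, htH⟩
        · exact ⟨mem_involCen.2 ⟨h3, mul_mem (mem_cent.2 rfl) (mem_cent_symm.1 hzc)⟩,
            mem_involCen.2 ⟨h3, mul_mem hzc (mem_cent.2 rfl)⟩⟩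
    have h4 := Finset.card_sdiff_add_card_inter (involCen z) H
    rw [d.involCen_card_eq hz2 ht, hi] at h4
    omega

/-- An involution centraliser has `b + 1` involutions, and other elements of even centraliser order
commute with one involution. -/
theorem card_involCen : (∀ t : G, orderOf t = 2 → (involCen t).card = b + 1) ∧
    ∀ e : G, e ≠ 1 → orderOf e ≠ 2 → Even (Nat.card cen(e)) → (involCen e).card = 1 := by
  haveI : Fact (Nat.Prime 2) := ⟨Nat.prime_two⟩
  obtain ⟨t, ht, -⟩ := d.exists_big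
  obtain ⟨i, hi⟩ : ∃ i, (involCen t).card = i + 1 :=
    ⟨(involCen t).card - 1, by
      have := Finset.card_pos.2 ⟨t, mem_involCen.2 ⟨ht, mem_cent.2 (rfl : t * t = t * t)⟩⟩
      omega⟩
  have hb := d.four
  set E := Finset.univ.filter fun e : G => e ≠ 1 ∧ Even (Nat.card cen(e))
  have hE : E.card = q * a * (b - 1) := by
    rw [← d.counts_univ.2.2, Nat.card_eq_fintype_card, Fintype.card_subtype]
  have hsub : invols G ⊆ E := fun v hv => Finset.mem_filter.2 ⟨Finset.mem_univ _, invol_ne_one (mem_invols.1 hv),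
    even_iff_two_dvd.2 (mem_invols.1 hv ▸ orderOf_dvd_cen v)⟩
  have hpairs : ∑ e ∈ E, (involCen e).card = q * a * (2 * b - 1) := by
    rw [← d.card_invols, ← smul_eq_mul, ← Finset.sum_const]
    refine Eq.trans (Finset.sum_card_bipartiteAbove_eq_sum_card_bipartiteBelow
      (s := E) (t := invols G) fun e v => v ∈ cen(e)) (Finset.sum_congr rfl fun v hv => ?_)
    have h2 := mem_invols.1 hv
    have h3 : Finset.bipartiteBelow (fun e v => v ∈ cen(e)) E v =
        (Finset.univ.filter fun e => e ∈ cen(v)).erase 1 := by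
      ext e
      simp only [Finset.bipartiteBelow, Finset.mem_filter, E, Finset.mem_erase, Finset.mem_univ, true_and]
      constructor
      · exact fun ⟨⟨h, _⟩, h'⟩ => ⟨h, mem_cent_symm.1 h'⟩
      · exact fun ⟨h, h'⟩ => ⟨⟨h, even_iff_two_dvd.2 (h2 ▸ Subgroup.orderOf_dvd_natCard _ (mem_cent_symm.1 h'))⟩,
          mem_cent_symm.1 h'⟩
    rw [h3, Finset.card_erase_of_mem (by simp), ← Fintype.card_subtype, ← Nat.card_eq_fintype_card]
    exact congrArg (· - 1) (d.cen_invol h2)
  set f : G → ℕ := fun e => 1 + if orderOf e = 2 then i else 0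
  have hf : ∀ e ∈ E, f e ≤ (involCen e).card := by
    intro e he
    simp only [f]
    split_ifs with h2
    · rw [d.involCen_card_eq h2 ht, hi, add_comm]
    · obtain ⟨⟨z, hz⟩, hz2⟩ := exists_prime_orderOf_dvd_card' (G := cen(e)) 2
        (even_iff_two_dvd.1 ((Finset.mem_filter.1 he).2.2))
      rw [Subgroup.orderOf_mk] at hz2
      exact Finset.card_pos.2 ⟨z, mem_involCen.2 ⟨hz2, hz⟩⟩
  have hfs : ∑ e ∈ E, f e = q * a * (b - 1) + q * a * i := by
    rw [Finset.sum_add_distrib, Finset.sum_const, smul_eq_mul, mul_one, hE, ← Finset.sum_filter,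
      Finset.sum_const, smul_eq_mul]
    congr 2
    rw [← d.card_invols]
    congr 1
    ext v
    rw [Finset.mem_filter, mem_invols]
    exact ⟨fun h => h.2, fun h => ⟨hsub (mem_invols.2 h), h⟩⟩
  have hib : i ≤ b := by
    have h := Finset.sum_le_sum hf
    rw [hpairs, hfs, ← Nat.mul_add] at h
    have := Nat.le_of_mul_le_mul_left h (Nat.mul_pos d.toParams.q_pos d.toParams.a_pos)
    omega
  have hbi : i = b := by
    by_contra hne
    have h1 := (d.card_even_ge ht).trans (d.card_even_le ht hi)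
    obtain ⟨c, rfl⟩ : ∃ c, b = c + 2 := ⟨b - 2, by omega⟩
    have h2 : i * (i - 2) ≤ (c + 1) * (c - 1) := Nat.mul_le_mul (by omega) (by omega)
    have h3 : (c + 1) * (c - 1) ≤ (c + 1) * c := Nat.mul_le_mul_left _ (by omega)
    rw [show (c + 2) * (c + 2 - 1) = (c + 1) * c + 2 * c + 2 by rw [show c + 2 - 1 = c + 1 by omega]; ring] at h1
    omega
  subst hbi
  refine ⟨fun u hu => (d.involCen_card_eq hu ht).trans hi, fun e he he2 hev => ?_⟩
  have heq : ∑ e ∈ E, f e = ∑ e ∈ E, (involCen e).card := by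
    rw [hpairs, hfs, ← Nat.mul_add]
    congr 1
    omega
  have h1 := (Finset.sum_eq_sum_iff_of_le hf).1 heq e (Finset.mem_filter.2 ⟨Finset.mem_univ _, he, hev⟩)
  simpa [f, he2] using h1.symm

/-- The abelian subgroup of index two of an involution centraliser. -/
theorem exists_torus {t : G} (ht : orderOf t = 2) :
    ∃ K : Subgroup G, K ≤ cen(t) ∧ Nat.card K = b ∧ t ∈ K ∧ (∀ x ∈ K, ∀ y ∈ K, x * y = y * x) ∧
      (∀ k ∈ K, orderOf k = 2 → k = t) ∧ (∀ k ∈ K, k ≠ 1 → k ≠ t → cen(k) = K) ∧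
      ∀ s ∈ cen(t), s ∉ K → orderOf s = 2 ∧ ∀ k ∈ K, s * k * s⁻¹ = k⁻¹ := by
  haveI : Fact (Nat.Prime 2) := ⟨Nat.prime_two⟩
  obtain ⟨hcard, huniq⟩ := d.card_involCen
  set H := cen(t)
  have hb := d.four
  have hH : Nat.card H = 2 * b := d.cen_invol ht
  set K₀ : Finset G := (Finset.univ.filter fun x => x ∈ H) \ (involCen t).erase t
  have hK₀ : K₀.card = b := by
    rw [Finset.card_sdiff_of_subset (fun x hx => Finset.mem_filter.2 ⟨Finset.mem_univ _,
      (mem_involCen.1 (Finset.mem_of_mem_erase hx)).2⟩), ← Fintype.card_subtype, ← Nat.card_eq_fintype_card,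
      Finset.card_erase_of_mem (mem_involCen.2 ⟨ht, mem_cent.2 rfl⟩), hcard t ht]
    rw [show Nat.card {x // x ∈ H} = 2 * b from hH]
    omega
  have key : ∀ k ∈ K₀, k ≠ 1 → k ≠ t → ∀ x, x ∈ cen(k) ↔ x ∈ K₀ := by
    intro k hk hk1 hkt
    obtain ⟨hkH, hkn⟩ := Finset.mem_sdiff.1 hk
    have hkH := (Finset.mem_filter.1 hkH).2
    have hk2 : orderOf k ≠ 2 := fun e => hkn (Finset.mem_erase.2 ⟨hkt, mem_involCen.2 ⟨e, hkH⟩⟩)
    have htk : t ∈ cen(k) := mem_cent_symm.1 hkH
    have hev : Even (Nat.card cen(k)) := even_iff_two_dvd.2 (ht ▸ Subgroup.orderOf_dvd_natCard _ htk)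
    obtain ⟨w, hw⟩ := Finset.card_eq_one.1 (huniq k hk1 hk2 hev)
    have honly : ∀ v ∈ cen(k), orderOf v = 2 → v = t := fun v hv hv2 => by
      have h1 : v ∈ involCen k := mem_involCen.2 ⟨hv2, hv⟩
      have h2 : t ∈ involCen k := mem_involCen.2 ⟨ht, htk⟩
      rw [hw, Finset.mem_singleton] at h1 h2
      rw [h1, h2]
    have hsub : (Finset.univ.filter fun x => x ∈ cen(k)) ⊆ K₀ := by
      intro x hx
      have hx := (Finset.mem_filter.1 hx).2
      have h1 : x * t * x⁻¹ = t :=
        honly _ (mul_mem (mul_mem hx htk) (inv_mem hx)) (by rw [orderOf_conj_eq]; exact ht)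
      refine Finset.mem_sdiff.2 ⟨Finset.mem_filter.2 ⟨Finset.mem_univ _, mem_cent.2 ?_⟩, fun h => ?_⟩
      · calc x * t = x * t * x⁻¹ * x := by group
          _ = t * x := by rw [h1]
      · obtain ⟨hxt, hxi⟩ := Finset.mem_erase.1 h
        exact hxt (honly x hx (mem_involCen.1 hxi).1)
    have heq := Finset.eq_of_subset_of_card_le hsub (by
      rw [hK₀, ← Fintype.card_subtype, ← Nat.card_eq_fintype_card]
      show b ≤ Nat.card cen(k)
      rcases d.cen_even_cases hk1 hev with c | c <;> omega)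
    intro x
    rw [← heq]
    simp
  obtain ⟨h, hh⟩ : ((K₀.erase 1).erase t).Nonempty := Finset.card_pos.1 (by
    have := Finset.pred_card_le_card_erase (a := t) (s := K₀.erase 1)
    have := Finset.pred_card_le_card_erase (a := (1 : G)) (s := K₀)
    omega)
  obtain ⟨hht, hh1, hhK⟩ : h ≠ t ∧ h ≠ 1 ∧ h ∈ K₀ := by
    simpa [Finset.mem_erase] using hh
  have hmem := key h hhK hh1 hht
  have hKH : cen(h) ≤ H := fun x hx => (Finset.mem_filter.1 (Finset.mem_sdiff.1 ((hmem x).1 hx)).1).2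
  have hKcard : Nat.card cen(h) = b := by
    rw [← hK₀, Nat.card_eq_fintype_card, Fintype.card_subtype]
    congr 1
    ext x
    simp [hmem x]
  have hcen : ∀ k ∈ cen(h), k ≠ 1 → k ≠ t → cen(k) = cen(h) := fun k hk hk1 hkt => by
    ext x
    rw [key k ((hmem k).1 hk) hk1 hkt, hmem]
  have hinvK : ∀ k ∈ cen(h), orderOf k = 2 → k = t := fun k hk hk2 => by
    by_contra hne
    exact (Finset.mem_sdiff.1 ((hmem k).1 hk)).2
      (Finset.mem_erase.2 ⟨hne, mem_involCen.2 ⟨hk2, hKH hk⟩⟩)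
  have hout : ∀ s ∈ H, s ∉ cen(h) → orderOf s = 2 := fun s hs hsn => by
    by_contra hne
    exact hsn ((hmem s).2 (Finset.mem_sdiff.2 ⟨Finset.mem_filter.2 ⟨Finset.mem_univ _, hs⟩,
      fun h' => hne (mem_involCen.1 (Finset.mem_of_mem_erase h')).1⟩))
  refine ⟨cen(h), hKH, hKcard, mem_cent_symm.1 (Finset.mem_filter.1 (Finset.mem_sdiff.1 hhK).1).2,
    fun x hx y hy => ?_, hinvK, hcen, fun s hs hsn => ⟨hout s hs hsn, fun k hk => ?_⟩⟩
  · by_cases hy1 : y = 1
    · rw [hy1, mul_one, one_mul]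
    by_cases hyt : y = t
    · rw [hyt]; exact mem_cent.1 (hKH hx)
    · exact mem_cent.1 ((hcen y hy hy1 hyt).symm ▸ hx)
  · have h1 : s * k ∉ cen(h) := fun h' => hsn ((Subgroup.mul_mem_cancel_right _ hk).1 h')
    have h2 := invol_mul_self (hout _ (mul_mem hs (hKH hk)) h1)
    have h3 := invol_inv (hout s hs hsn)
    rw [h3, eq_inv_iff_mul_eq_one]
    rw [← mul_assoc] at h2
    exact h2

/-- Elements with centraliser of order `2b` are involutions. -/
theorem invol_of_card_two_b {g : G} (hg : g ≠ 1) (h2b : Nat.card cen(g) = 2 * b) : orderOf g = 2 := by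
  haveI : Fact (Nat.Prime 2) := ⟨Nat.prime_two⟩
  by_contra hne
  obtain ⟨⟨v, hv⟩, hv2⟩ := exists_prime_orderOf_dvd_card' (G := cen(g)) 2 (h2b ▸ dvd_mul_right 2 b)
  rw [Subgroup.orderOf_mk] at hv2
  obtain ⟨K, -, hK, -, -, -, hcen, hout⟩ := d.exists_torus hv2
  have hgv : g ∈ cen(v) := mem_cent_symm.1 hv
  by_cases hgK : g ∈ K
  · have h1 : g ≠ v := fun e => hne (e ▸ hv2)
    rw [hcen g hgK hg h1, hK] at h2b
    have := d.four
    omega
  · exact hne (hout g hgv hgK).1

end Data

end CfsgLib.Recog.ClassPSL
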