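import Cfsg.Agent.Lib.Recog.ClassPSL.Order

/-!
The central quotient: elements by centraliser order, and the inverted abelian subgroups of order `a`.
-/

set_option autoImplicit false
set_option linter.unusedSectionVars false
set_option linter.style.haveILetI false

namespace CfsgLib.Recog.ClassPSL

open CfsgLib.StructC.ClassCoprime
open scoped Classical

universe u

variable {G : Type u} [Group G] [Finite G] {q a b : ℕ}

local notation "cen(" x ")" => Subgroup.centralizer ({x} : Set G)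

theorem orderOf_dvd_cen (g : G) : orderOf g ∣ Nat.card cen(g) :=
  Subgroup.orderOf_dvd_natCard _ (mem_cent.2 rfl)

theorem cen_conj_map (g x : G) : cen(g * x * g⁻¹) = cen(x).map (MulAut.conj g).toMonoidHom := by
  ext v
  rw [Subgroup.mem_map, mem_cent]
  constructor
  · intro h
    refine ⟨g⁻¹ * v * g, mem_cent.2 ?_, show g * (g⁻¹ * v * g) * g⁻¹ = v by group⟩
    calc g⁻¹ * v * g * x = g⁻¹ * (v * (g * x * g⁻¹)) * g := by group
      _ = g⁻¹ * (g * x * g⁻¹ * v) * g := by rw [h]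
      _ = x * (g⁻¹ * v * g) := by group
  · rintro ⟨w, hw, rfl⟩
    show g * w * g⁻¹ * (g * x * g⁻¹) = g * x * g⁻¹ * (g * w * g⁻¹)
    calc g * w * g⁻¹ * (g * x * g⁻¹) = g * (w * x) * g⁻¹ := by group
      _ = g * (x * w) * g⁻¹ := by rw [mem_cent.1 hw]
      _ = g * x * g⁻¹ * (g * w * g⁻¹) := by group

theorem card_cen_conj (g x : G) : Nat.card cen(g * x * g⁻¹) = Nat.card cen(x) := by
  rw [cen_conj_map]
  exact Subgroup.card_map_of_injective (MulAut.conj g).injective

theorem mem_map_conj {g y : G} {A : Subgroup G} :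
    y ∈ A.map (MulAut.conj g).toMonoidHom ↔ g⁻¹ * y * g ∈ A := by
  rw [Subgroup.mem_map]
  constructor
  · rintro ⟨w, hw, rfl⟩
    show g⁻¹ * (g * w * g⁻¹) * g ∈ A
    rwa [show g⁻¹ * (g * w * g⁻¹) * g = w by group]
  · exact fun h => ⟨_, h, show g * (g⁻¹ * y * g) * g⁻¹ = y by group⟩

/-- Counting a conjugacy class of self-centralising trivial-intersection subgroups. -/
theorem card_ti {v : ℕ} (hv : v ≠ 1) {A : Subgroup G} (hA : Nat.card A = v)
    (hcen : ∀ y ∈ A, y ≠ 1 → cen(y) = A)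
    (hconj : ∀ y : G, y ≠ 1 → Nat.card cen(y) = v → ∃ g : G, cen(y) = A.map (MulAut.conj g).toMonoidHom) :
    Nat.card {y : G // y ≠ 1 ∧ Nat.card cen(y) = v} * Nat.card (Subgroup.normalizer (A : Set G)) =
      Nat.card G * (v - 1) := by
  obtain ⟨y₁, hy₁, hy₁'⟩ := (Subgroup.bot_or_exists_ne_one A).resolve_left fun e => hv (by
    rw [← hA, e, Subgroup.card_bot])
  let T := {y : A // y ≠ 1}
  let S := {y : G // y ≠ 1 ∧ Nat.card cen(y) = v}
  let φ : G × T → S := fun p => ⟨p.1 * (p.2.1 : G) * p.1⁻¹,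
    fun e => p.2.2 (Subtype.ext (conj_eq_one_iff.1 e)), by
      rw [card_cen_conj, hcen _ p.2.1.2 fun e => p.2.2 (Subtype.ext e), hA]⟩
  have hfib : ∀ s : S, Nat.card {p : G × T // φ p = s} = Nat.card (Subgroup.normalizer (A : Set G)) := by
    rintro ⟨y, hy, hyv⟩
    obtain ⟨g₀, hg₀⟩ := hconj y hy hyv
    have hmem : ∀ n : G, n ∈ Subgroup.normalizer (A : Set G) → (g₀ * n)⁻¹ * y * (g₀ * n) ∈ A := by
      intro n hn
      have h0 : g₀⁻¹ * y * g₀ ∈ A := mem_map_conj.1 (hg₀ ▸ mem_cent.2 rfl)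
      rw [show (g₀ * n)⁻¹ * y * (g₀ * n) = n⁻¹ * (g₀⁻¹ * y * g₀) * (n⁻¹)⁻¹ by group]
      exact (Subgroup.mem_normalizer_iff.1 (inv_mem hn) _).1 h0
    have hne : ∀ g : G, g⁻¹ * y * g ≠ 1 := fun g e => hy (by
      have h := congrArg (fun w => g * w * g⁻¹) e
      simpa [mul_assoc] using h)
    refine Nat.card_congr
      { toFun := fun p => ⟨g₀⁻¹ * p.1.1, ?_⟩
        invFun := fun n => ⟨(g₀ * n, ⟨⟨_, hmem n n.2⟩, fun e => hne _ (congrArg Subtype.val e)⟩),
          Subtype.ext (show g₀ * n * ((g₀ * n)⁻¹ * y * (g₀ * n)) * (g₀ * n)⁻¹ = y by group)⟩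
        left_inv := fun p => ?_
        right_inv := fun n => Subtype.ext (inv_mul_cancel_left g₀ n) }
    · obtain ⟨⟨g, ⟨⟨x, hx⟩, hx1⟩⟩, hp⟩ := p
      have hp' : g * x * g⁻¹ = y := congrArg Subtype.val hp
      have h1 : A.map (MulAut.conj g).toMonoidHom = A.map (MulAut.conj g₀).toMonoidHom := by
        rw [← hg₀, ← hp', cen_conj_map, hcen x hx fun e => hx1 (Subtype.ext e)]
      refine Subgroup.mem_normalizer_iff.2 fun w => ?_
      show w ∈ A ↔ g₀⁻¹ * g * w * (g₀⁻¹ * g)⁻¹ ∈ A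
      rw [show g₀⁻¹ * g * w * (g₀⁻¹ * g)⁻¹ = g₀⁻¹ * (g * w * g⁻¹) * g₀ by group, ← mem_map_conj, ← h1,
        mem_map_conj, show g⁻¹ * (g * w * g⁻¹) * g = w by group]
    · obtain ⟨⟨g, ⟨⟨x, hx⟩, hx1⟩⟩, hp⟩ := p
      have hp' : g * x * g⁻¹ = y := congrArg Subtype.val hp
      refine Subtype.ext (Prod.ext (mul_inv_cancel_left g₀ g) (Subtype.ext (Subtype.ext ?_)))
      show (g₀ * (g₀⁻¹ * g))⁻¹ * y * (g₀ * (g₀⁻¹ * g)) = x
      rw [mul_inv_cancel_left, ← hp']
      group
  have h1 := Nat.card_congr (Equiv.sigmaFiberEquiv φ)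
  haveI := Fintype.ofFinite S
  rw [Nat.card_sigma, Finset.sum_congr rfl (fun s _ => hfib s), Finset.sum_const, Finset.card_univ,
    smul_eq_mul, Nat.card_prod] at h1
  rw [Nat.card_eq_fintype_card, h1]
  congr 1
  haveI := Fintype.ofFinite A
  rw [Nat.card_eq_fintype_card, Fintype.card_subtype_compl, Fintype.card_subtype_eq, ← Nat.card_eq_fintype_card, hA]

namespace Data

variable (d : Data G q a b)
include d

theorem not_dvd_a {k : ℕ} (hk : k ≠ 1) (hka : k ∣ a) : ¬ k ∣ 2 * b ∧ ¬ k ∣ q := by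
  constructor <;> intro h
  · exact hk (Nat.eq_one_of_dvd_coprimes (d.toParams.cop_a2.mul_right d.toParams.cop_ab) hka h)
  · exact hk (Nat.eq_one_of_dvd_coprimes d.toParams.cop_qa h hka)

/-- An element of order dividing `a` has centraliser order `a`. -/
theorem cen_of_dvd_a {g : G} (hg : g ≠ 1) (h : orderOf g ∣ a) : Nat.card cen(g) = a := by
  have hk : orderOf g ≠ 1 := by rwa [Ne, orderOf_eq_one_iff]
  obtain ⟨h1, h2⟩ := d.not_dvd_a hk h
  have hd := orderOf_dvd_cen g
  rcases d.cases' g hg with e | e | e | e <;> rw [e] at hd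
  · exact absurd hd h2
  · exact e
  · exact absurd (hd.trans (dvd_mul_left b 2)) h1
  · exact absurd hd h1

/-- An element of order dividing `q` has centraliser order `q`. -/
theorem cen_of_dvd_q {g : G} (hg : g ≠ 1) (h : orderOf g ∣ q) : Nat.card cen(g) = q := by
  have hk : orderOf g ≠ 1 := by rwa [Ne, orderOf_eq_one_iff]
  have hd := orderOf_dvd_cen g
  rcases d.cases' g hg with e | e | e | e <;> rw [e] at hd
  · exact e
  · exact absurd hd fun h' => hk (Nat.eq_one_of_dvd_coprimes d.toParams.cop_qa h h')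
  · exact absurd hd fun h' => hk (Nat.eq_one_of_dvd_coprimes d.toParams.cop_qb h h')
  · exact absurd hd fun h' => hk (Nat.eq_one_of_dvd_coprimes (d.toParams.cop_q2.mul_right d.toParams.cop_qb) h h')

/-- Elements of a conjugation-invariant set, by centraliser order. -/
theorem counts (P : G → Prop) (hP : ∀ g h : G, P g → P (h * g * h⁻¹)) (h1 : P 1) :
    ∃ u f e : ℕ, Nat.card {g : G // P g} = 1 + 2 * a * b * u + 2 * b * q * f + q * a * e ∧
      Nat.card {g : G // (P g ∧ g ≠ 1) ∧ Nat.card cen(g) = q} = 2 * a * b * u ∧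
      Nat.card {g : G // (P g ∧ g ≠ 1) ∧ Nat.card cen(g) = a} = 2 * b * q * f ∧
      Nat.card {g : G // (P g ∧ g ≠ 1) ∧ Even (Nat.card cen(g))} = q * a * e := by
  have hq := d.toParams.q_pos; have ha := d.toParams.a_pos; have hb := d.toParams.b_pos
  haveI := Fintype.ofFinite G
  let P' : G → Prop := fun g => P g ∧ g ≠ 1
  have hP' : ∀ g h : G, P' g → P' (h * g * h⁻¹) := fun g h ⟨x, y⟩ => ⟨hP g h x, fun e => y (conj_eq_one_iff.1 e)⟩
  have hd : ∀ v, 0 < v → ∀ w, v * w = 2 * a * b * q → ∃ k, Nat.card {g : G // P' g ∧ Nat.card cen(g) = v} = w * k := by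
    intro v hv w hw
    obtain ⟨k, hk⟩ := card_dvd_mul P' hP' v
    rw [d.card, ← hw, mul_assoc] at hk
    exact ⟨k, Nat.eq_of_mul_eq_mul_left hv hk⟩
  obtain ⟨u, hu⟩ := hd q hq (2 * a * b) (by ring)
  obtain ⟨f, hf⟩ := hd a ha (2 * b * q) (by ring)
  obtain ⟨e₁, he₁⟩ := hd b hb (2 * (q * a)) (by ring)
  obtain ⟨e₂, he₂⟩ := hd (2 * b) (by omega) (q * a) (by ring)
  have hev : ∀ g : G, P' g → (Even (Nat.card cen(g)) ↔ Nat.card cen(g) = b ∨ Nat.card cen(g) = 2 * b) := by
    intro g hg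
    rcases d.cases' g hg.2 with e | e | e | e <;> rw [e]
    · simp only [Nat.not_even_iff_odd.2 d.toParams.q_odd, false_iff, not_or]
      exact ⟨fun h => Nat.not_even_iff_odd.2 d.toParams.q_odd (h ▸ d.evenB),
        fun h => Nat.not_even_iff_odd.2 d.toParams.q_odd (h ▸ even_two_mul b)⟩
    · simp only [Nat.not_even_iff_odd.2 d.oddA, false_iff, not_or]
      exact ⟨fun h => Nat.not_even_iff_odd.2 d.oddA (h ▸ d.evenB),
        fun h => Nat.not_even_iff_odd.2 d.oddA (h ▸ even_two_mul b)⟩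
    · exact ⟨fun _ => Or.inl rfl, fun _ => d.evenB⟩
    · exact ⟨fun _ => Or.inr rfl, fun _ => even_two_mul b⟩
  simp only [Nat.card_eq_fintype_card (α := {g : G // P' g ∧ _}), Fintype.card_subtype] at hu hf he₁ he₂
  have hne : ∀ {v w : ℕ}, v ≠ w → Disjoint (Finset.univ.filter fun g : G => P' g ∧ Nat.card cen(g) = v)
      (Finset.univ.filter fun g : G => P' g ∧ Nat.card cen(g) = w) := fun {v w} h =>
    Finset.disjoint_filter.2 fun g _ h1 h2 => h (h1.2.symm.trans h2.2)
  have hE : Nat.card {g : G // P' g ∧ Even (Nat.card cen(g))} = q * a * (2 * e₁ + e₂) := by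
    rw [Nat.card_eq_fintype_card, Fintype.card_subtype,
      show q * a * (2 * e₁ + e₂) = 2 * (q * a) * e₁ + q * a * e₂ by ring, ← he₁, ← he₂,
      ← Finset.card_union_of_disjoint (hne (by omega))]
    congr 1
    ext g
    simp only [Finset.mem_union, Finset.mem_filter, Finset.mem_univ, true_and]
    exact ⟨fun ⟨h, h'⟩ => ((hev g h).1 h').imp (And.intro h) (And.intro h),
      fun h => h.elim (fun ⟨x, y⟩ => ⟨x, (hev g x).2 (Or.inl y)⟩) fun ⟨x, y⟩ => ⟨x, (hev g x).2 (Or.inr y)⟩⟩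
  refine ⟨u, f, 2 * e₁ + e₂, ?_, ?_, ?_, hE⟩
  rotate_left
  · rw [Nat.card_eq_fintype_card, Fintype.card_subtype]; exact hu
  · rw [Nat.card_eq_fintype_card, Fintype.card_subtype]; exact hf
  rw [← hE, ← hu, ← hf, Nat.card_eq_fintype_card, Fintype.card_subtype, Nat.card_eq_fintype_card,
    Fintype.card_subtype]
  have hq' : q ≠ a := by
    have := d.sum
    omega
  rw [add_assoc 1, ← Finset.card_union_of_disjoint (hne hq'), add_assoc,
    ← Finset.card_union_of_disjoint, add_comm, ← Finset.card_insert_of_notMem (a := (1 : G))]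
  · congr 1
    ext g
    simp only [Finset.mem_insert, Finset.mem_union, Finset.mem_filter, Finset.mem_univ, true_and]
    constructor
    · intro hg
      by_cases hg1 : g = 1
      · exact Or.inl hg1
      refine Or.inr ?_
      rcases d.cases' g hg1 with e | e | e | e
      · exact Or.inl (Or.inl ⟨⟨hg, hg1⟩, e⟩)
      · exact Or.inl (Or.inr ⟨⟨hg, hg1⟩, e⟩)
      · exact Or.inr ⟨⟨hg, hg1⟩, e ▸ d.evenB⟩
      · exact Or.inr ⟨⟨hg, hg1⟩, e ▸ even_two_mul b⟩
    · rintro (rfl | (h | h) | h)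
      exacts [h1, h.1.1, h.1.1, h.1.1]
  · simp [P']
  · refine Finset.disjoint_union_left.2 ⟨?_, ?_⟩ <;> refine Finset.disjoint_filter.2 fun g _ h1 h2 => ?_ <;>
      rw [h1.2] at h2
    · exact Nat.not_even_iff_odd.2 d.toParams.q_odd h2.2
    · exact Nat.not_even_iff_odd.2 d.oddA h2.2

/-- The three numbers of elements. -/
theorem counts_univ :
    Nat.card {g : G // g ≠ 1 ∧ Nat.card cen(g) = q} = 4 * a * b ∧
    Nat.card {g : G // g ≠ 1 ∧ Nat.card cen(g) = a} = (a - 1) * b * q ∧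
    Nat.card {g : G // g ≠ 1 ∧ Even (Nat.card cen(g))} = q * a * (b - 1) := by
  obtain ⟨u, f, e, hsum, hu, hf, he⟩ := d.counts (fun _ => True) (fun _ _ h => h) trivial
  simp only [true_and] at hu hf he
  rw [Nat.card_congr (Equiv.subtypeUnivEquiv fun _ => trivial), d.card] at hsum
  have hqq := d.toParams.sq_eq
  have hs := d.sum
  have ha := d.toParams.a_ge; have hb := d.four; have hq := d.toParams.q_ge
  have huq : u < q := by
    refine lt_of_mul_lt_mul_left (a := 2 * a * b) ?_ (Nat.zero_le _)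
    omega
  have hfa : f < a := by
    refine lt_of_mul_lt_mul_left (a := 2 * b * q) ?_ (Nat.zero_le _)
    rw [show 2 * b * q * a = 2 * a * b * q by ring]
    omega
  have hu1 : 1 ≤ u := by
    rcases Nat.eq_zero_or_pos u with rfl | h
    · obtain ⟨g, hg, hgq⟩ := d.exQ
      have : 0 < Nat.card {g : G // g ≠ 1 ∧ Nat.card cen(g) = q} :=
        Nat.card_pos_iff.2 ⟨⟨⟨g, hg, hgq⟩⟩, inferInstance⟩
      omega
    · exact h
  have hu2 : u = 2 := by
    have h2 : (q : ℤ) ∣ 2 - (u : ℤ) := by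
      refine ⟨2 * (2 * a * b) - 2 * (2 * b * f) - 2 * (a * e) - (u : ℤ) * q, ?_⟩
      have h3 : (2 * a * b * q : ℤ) = 1 + 2 * a * b * u + 2 * b * q * f + q * a * e := by exact_mod_cast hsum
      have h4 : (q * q : ℤ) = 4 * a * b + 1 := by exact_mod_cast hqq
      linear_combination (-2 : ℤ) * h3 + (u : ℤ) * h4
    by_contra hne
    have h3 := Int.natAbs_dvd_natAbs.2 h2
    rw [Int.natAbs_natCast] at h3
    have := Nat.le_of_dvd (by omega) h3
    omega
  have hf2 : 2 * f + 1 = a := by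
    have h2 : (a : ℤ) ∣ 1 + 2 * (f : ℤ) := by
      have h3 : (2 * a * b * q : ℤ) = 1 + 2 * a * b * u + 2 * b * q * f + q * a * e := by exact_mod_cast hsum
      have h4 : (b * q : ℤ) = 1 + a * (b + (if a = b + 1 then (a : ℤ) - 2 else (a : ℤ) + 2)) := by
        rcases d.near with c | c
        · rw [if_pos c, show (q : ℤ) = a + b by exact_mod_cast hs, show (a : ℤ) = b + 1 by exact_mod_cast c]; ring
        · rw [if_neg (by omega), show (q : ℤ) = a + b by exact_mod_cast hs, show (b : ℤ) = a + 1 by exact_mod_cast c]; ring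
      refine ⟨2 * b * q - 2 * b * u - q * e - 2 * f * (b + (if a = b + 1 then (a : ℤ) - 2 else (a : ℤ) + 2)), ?_⟩
      linear_combination -h3 + (-2 * (f : ℤ)) * h4
    obtain ⟨k, hk⟩ : a ∣ 1 + 2 * f := by exact_mod_cast h2
    rcases k with _ | _ | _ | k <;> [omega; omega; skip; nlinarith]
    obtain ⟨c, hc⟩ := d.oddA
    omega
  have he2 : e + 1 = b := by
    have h3 : (2 * a * b * q : ℤ) = 1 + 2 * a * b * u + 2 * b * q * f + q * a * e := by exact_mod_cast hsum
    have h4 : (q * q : ℤ) = 4 * a * b + 1 := by exact_mod_cast hqq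
    have h5 : (2 * f + 1 : ℤ) = a := by exact_mod_cast hf2
    have h7 : (q : ℤ) = a + b := by exact_mod_cast hs
    rw [hu2] at h3
    push_cast at h3
    have h6 : (q * a : ℤ) * (e + 1) = q * a * b := by
      linear_combination -h3 + h4 - (q : ℤ) * h7 - (b : ℤ) * q * h5
    exact_mod_cast mul_left_cancel₀ (by positivity : (q * a : ℤ) ≠ 0) h6
  refine ⟨?_, ?_, ?_⟩
  · rw [hu, hu2]; ring
  · rw [hf, show a - 1 = 2 * f by omega]; ring
  · rw [he, show b - 1 = e by omega]

/-- The centraliser of an element with centraliser order `a` is abelian and self-centralising. -/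
theorem cen_eq_of_a {x y : G} (hx : x ≠ 1) (hxa : Nat.card cen(x) = a) (hy : y ∈ cen(x)) (hy1 : y ≠ 1) :
    cen(y) = cen(x) := by
  have ha := d.toParams.a_ge
  have hya : Nat.card cen(y) = a := d.cen_of_dvd_a hy1 (hxa ▸ Subgroup.orderOf_dvd_natCard _ hy)
  suffices hab : ∀ u ∈ cen(x), ∀ v ∈ cen(x), u * v = v * u from
    (Subgroup.eq_of_le_of_card_ge (fun v hv => mem_cent.2 (hab v hv y hy)) (hya.trans hxa.symm).le).symm
  have hc : ∀ g : G, g ≠ 1 → g ∉ Subgroup.center G := by
    intro g hg hZ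
    have h1 : cen(g) = ⊤ := Subgroup.centralizer_eq_top_iff_subset.2 (Set.singleton_subset_iff.2 hZ)
    have h2 := d.card
    rw [← Subgroup.card_top (G := G), ← h1] at h2
    have := d.four; have := d.sum
    have h3 : 8 * (q * 1) ≤ 2 * a * b * q := by nlinarith [Nat.mul_le_mul (Nat.mul_le_mul (Nat.mul_le_mul (le_refl 2) (show 1 ≤ a by omega)) (show 4 ≤ b by omega)) (le_refl q)]
    have h4 : 2 * a * b ≤ 2 * a * b * q := Nat.le_mul_of_pos_right _ d.toParams.q_pos
    have h5 : 2 * 1 * b ≤ 2 * a * b := Nat.mul_le_mul_right _ (by omega)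
    rcases d.cases' g hg with e | e | e | e <;> rw [e] at h2 <;> nlinarith
  have hiso : Isolated G (2 * b * q) := by
    intro g hg hd
    have h1 := cen(g).card_mul_index
    rw [d.card] at h1
    have hg1 : g ≠ 1 := fun e => hg (e ▸ one_mem _)
    have := d.four; have := d.toParams.q_ge
    rcases d.cases' g hg1 with e | e | e | e <;> rw [e] at h1
    · have h3 : cs g = 2 * a * b := Nat.eq_of_mul_eq_mul_left (m := cs g) d.toParams.q_pos (h1.trans (by ring))
      exfalso; rw [h3] at hd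
      rcases hd with hd | hd
      · exact not_dvd_of_coprime d.toParams.cop_q_2ab (by omega) (dvd_trans (dvd_mul_left q (2 * b)) hd)
      · exact not_dvd_of_coprime d.toParams.cop_a_2qb (by omega)
          (dvd_trans ⟨2 * b, by ring⟩ (show 2 * a * b ∣ 2 * (q * b) from by rwa [show 2 * b * q = 2 * (q * b) by ring] at hd))
    · exact Nat.eq_of_mul_eq_mul_left (m := cs g) d.toParams.a_pos (h1.trans (by ring))
    · have h3 : cs g = 2 * q * a := Nat.eq_of_mul_eq_mul_left (m := cs g) d.toParams.b_pos (h1.trans (by ring))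
      exfalso; rw [h3] at hd
      rcases hd with hd | hd
      · have h4 : b ∣ q * a := by
          refine Nat.dvd_of_mul_dvd_mul_left two_pos ?_
          refine dvd_trans ⟨q, by ring⟩ (?_ : 2 * b * q ∣ 2 * (q * a))
          rwa [show 2 * (q * a) = 2 * q * a by ring]
        exact not_dvd_of_coprime (d.toParams.cop_qb.symm.mul_right d.toParams.cop_ab.symm) (by omega) h4
      · exact not_dvd_of_coprime d.toParams.cop_a_2qb (by omega)
          (dvd_trans (dvd_mul_left a (2 * q)) (show 2 * q * a ∣ 2 * (q * b) from by rwa [show 2 * b * q = 2 * (q * b) by ring] at hd))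
    · have h3 : cs g = q * a := Nat.eq_of_mul_eq_mul_left (m := cs g) (by omega) (h1.trans (by ring))
      exfalso; rw [h3] at hd
      rcases hd with hd | hd
      · have h4 : Even (q * a) := even_iff_two_dvd.2 (dvd_trans ⟨b * q, by ring⟩ hd)
        exact Nat.not_even_iff_odd.2 (d.toParams.q_odd.mul d.oddA) h4
      · exact not_dvd_of_coprime d.toParams.cop_a_2qb (by omega)
          (dvd_trans (dvd_mul_left a q) (show q * a ∣ 2 * (q * b) from by rwa [show 2 * b * q = 2 * (q * b) by ring] at hd))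
  have hxd : cs x = 2 * b * q := by
    have h1 := cen(x).card_mul_index
    rw [d.card, hxa] at h1
    exact Nat.eq_of_mul_eq_mul_left (m := cs x) d.toParams.a_pos (h1.trans (by ring))
  rcases hiso.structure (hc x hx) hxd with hab | ⟨r, hr, hrw⟩
  · exact hab
  haveI := Fact.mk hr
  have hrp : ∀ w ∈ cen(x), ∃ i : ℕ, w ^ r ^ i = 1 := fun w hw => by
    obtain ⟨i, hi⟩ := hrw w hw
    exact ⟨i, by by_contra hne; exact hc _ hne hi⟩
  obtain ⟨k, hk⟩ := IsPGroup.iff_card.1 (show IsPGroup r cen(x) from fun w => by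
    obtain ⟨i, hi⟩ := hrw w w.2
    exact ⟨i, Subtype.ext (by rw [SubgroupClass.coe_pow]; by_contra hne; exact hc _ hne hi)⟩)
  rw [hxa] at hk
  -- every element of centraliser order `a` is central in a unique Sylow `r`-subgroup
  have hfr : (Nat.card G).factorization r = k := by
    rw [d.card, show 2 * a * b * q = (2 * (q * b)) * a by ring, hk,
      Nat.factorization_mul (by have := d.toParams.q_pos; have := d.toParams.b_pos; positivity) (pow_pos hr.pos _).ne',
      Finsupp.add_apply, Nat.factorization_pow_self hr, Nat.factorization_eq_zero_of_not_dvd ?_, zero_add]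
    intro h
    have h2 : r ∣ a := by
      rcases Nat.eq_zero_or_pos k with rfl | hk0
      · rw [pow_zero] at hk; omega
      · exact hk ▸ dvd_pow_self r hk0.ne'
    exact hr.ne_one (Nat.eq_one_of_dvd_coprimes d.toParams.cop_a_2qb h2 h)
  let R : Sylow r G := Sylow.ofCard cen(x) (by rw [hxa, hfr, hk])
  by_contra hnab
  set S := {y : G // y ≠ 1 ∧ Nat.card cen(y) = a}
  have hS : Nat.card S = (a - 1) * b * q := d.counts_univ.2.1
  let Zx : Subgroup G := (Subgroup.center cen(x)).map cen(x).subtype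
  have hZx : ∀ y ∈ Zx, cen(x) ≤ cen(y) := by
    rintro _ ⟨w, hw, rfl⟩ v hv
    exact mem_cent.2 (congrArg Subtype.val (Subgroup.mem_center_iff.1 hw ⟨v, hv⟩))
  let φ : G × {y : Zx // y ≠ 1} → S := fun p => ⟨p.1 * (p.2.1 : G) * p.1⁻¹,
    fun e => p.2.2 (Subtype.ext (conj_eq_one_iff.1 e)), by
      rw [card_cen_conj]
      exact d.cen_of_dvd_a (fun e => p.2.2 (Subtype.ext e))
        (hxa ▸ Subgroup.orderOf_dvd_natCard _ (Subgroup.map_subtype_le _ p.2.1.2))⟩
  have hfib : ∀ s : S, a ≤ Nat.card {p : G × {y : Zx // y ≠ 1} // φ p = s} := by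
    rintro ⟨v, hv1, hva⟩
    let R' : Sylow r G := Sylow.ofCard cen(v) (by rw [hva, hfr, hk])
    obtain ⟨g, hg⟩ := MulAction.exists_smul_eq G R R'
    have hgv : cen(x).map (MulAut.conj g).toMonoidHom = cen(v) := by
      have h := congrArg (fun P : Sylow r G => (P : Subgroup G)) hg
      exact h
    have hz : g⁻¹ * v * g ∈ Zx := by
      refine ⟨⟨g⁻¹ * v * g, mem_map_conj.1 (hgv ▸ mem_cent.2 rfl)⟩, Subgroup.mem_center_iff.2 fun w => ?_, rfl⟩
      have h1 : g * w * g⁻¹ ∈ cen(v) := hgv ▸ ⟨w, w.2, rfl⟩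
      refine Subtype.ext ?_
      show (w : G) * (g⁻¹ * v * g) = g⁻¹ * v * g * w
      calc (w : G) * (g⁻¹ * v * g) = g⁻¹ * (g * w * g⁻¹ * v) * g := by group
        _ = g⁻¹ * (v * (g * w * g⁻¹)) * g := by rw [mem_cent.1 h1]
        _ = g⁻¹ * v * g * w := by group
    have hne : g⁻¹ * v * g ≠ 1 := fun e => hv1 (by
      have h := congrArg (fun w => g * w * g⁻¹) e
      simpa [mul_assoc] using h)
    refine le_trans hxa.ge (Nat.card_le_card_of_injective
      (fun w : cen(x) => ⟨(g * w, ⟨⟨g⁻¹ * v * g, hz⟩, fun e => hne (congrArg Subtype.val e)⟩), ?_⟩) ?_)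
    · refine Subtype.ext ?_
      have h1 := mem_cent.1 (hZx _ hz w.2)
      show g * w * (g⁻¹ * v * g) * (g * w)⁻¹ = v
      rw [mul_assoc g (w : G), h1]; group
    · intro w w' e
      exact Subtype.ext (mul_left_cancel (congrArg (fun p => p.1.1) e))
  haveI := Fintype.ofFinite S
  have h1 := Nat.card_congr (Equiv.sigmaFiberEquiv φ)
  rw [Nat.card_sigma, Nat.card_prod, d.card] at h1
  have h2 : Nat.card S * a ≤ 2 * a * b * q * Nat.card {y : Zx // y ≠ 1} := by
    rw [← h1, Nat.card_eq_fintype_card, ← Finset.card_univ, ← smul_eq_mul]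
    exact Finset.card_nsmul_le_sum _ _ _ fun s _ => hfib s
  have hZc : 3 * Nat.card Zx ≤ a := by
    rw [Subgroup.card_map_of_injective cen(x).subtype_injective, ← hxa, ← (Subgroup.center cen(x)).card_mul_index,
      mul_comm 3]
    refine Nat.mul_le_mul_left _ ?_
    have hi0 : (Subgroup.center cen(x)).index ≠ 0 := Subgroup.index_ne_zero_of_finite
    have hi1 : (Subgroup.center cen(x)).index ≠ 1 := fun e => hnab fun u hu v hv => by
      rw [Subgroup.index_eq_one] at e
      exact (congrArg Subtype.val (Subgroup.mem_center_iff.1 (e ▸ Subgroup.mem_top (⟨v, hv⟩ : cen(x))) ⟨u, hu⟩))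
    have hi2 : (Subgroup.center cen(x)).index ≠ 2 := fun e => by
      have h3 : 2 ∣ Nat.card cen(x) := e ▸ Subgroup.index_dvd_card _
      rw [hxa] at h3
      exact Nat.not_even_iff_odd.2 d.oddA (even_iff_two_dvd.2 h3)
    omega
  have hZ' : Nat.card {y : Zx // y ≠ 1} + 1 = Nat.card Zx := by
    haveI := Fintype.ofFinite Zx
    rw [Nat.card_eq_fintype_card, Fintype.card_subtype_compl, Fintype.card_subtype_eq, Nat.card_eq_fintype_card]
    exact Nat.sub_add_cancel Fintype.card_pos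
  rw [hS] at h2
  obtain ⟨a', rfl⟩ : ∃ a', a = a' + 1 := ⟨a - 1, by omega⟩
  rw [Nat.add_sub_cancel] at h2
  have h4 : a' ≤ 2 * Nat.card {y : Zx // y ≠ 1} := by
    refine Nat.le_of_mul_le_mul_right (c := (a' + 1) * b * q) ?_ (by
      have := d.toParams.q_pos; have := d.toParams.b_pos; positivity)
    calc a' * ((a' + 1) * b * q) = a' * b * q * (a' + 1) := by ring
      _ ≤ 2 * (a' + 1) * b * q * Nat.card {y : Zx // y ≠ 1} := h2
      _ = 2 * Nat.card {y : Zx // y ≠ 1} * ((a' + 1) * b * q) := by ring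
  omega

end Data

end CfsgLib.Recog.ClassPSL
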