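import Cfsg.Agent.Lib.Recog.ClassPSL.Basic

/-!
Interfaces of the recognition of `PSL(2,q)` by class sizes.
-/

set_option autoImplicit false

namespace CfsgLib.Recog.ClassPSL

open CfsgLib.StructC.ClassCoprime

universe u

/-- Commuting cosets of the centre have commuting representatives. -/
def Lifts (G : Type u) [Group G] : Prop :=
  ∀ x w : G, Commute (w : G ⧸ Subgroup.center G) (x : G ⧸ Subgroup.center G) → w * x = x * w

/-- The central quotient is `PSL(2,q)` and commuting pairs lift. -/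
def QuotIsPSL (G : Type u) [Group G] (q : ℕ) : Prop :=
  Lifts G ∧ ∃ (F : Type) (_ : Field F) (_ : Fintype F), Fintype.card F = q ∧
    Nonempty (G ⧸ Subgroup.center G ≃* Matrix.ProjectiveSpecialLinearGroup (Fin 2) F)

/-- The even case. -/
def EvenCase : Prop :=
  ∀ (G : Type u) [Group G] [Finite G] (f : ℕ), 2 ≤ f →
    Set.range (cs : G → ℕ) =
      {1, 2 ^ f * (2 ^ f - 1), (2 ^ f) ^ 2 - 1, 2 ^ f * (2 ^ f + 1)} →
    QuotIsPSL G (2 ^ f)

/-- Splitting off the centre. -/
def CentreSplits : Prop :=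
  ∀ (G : Type u) [Group G] [Finite G] (q : ℕ), 4 ≤ q → QuotIsPSL G q →
    ∃ N A : Subgroup G, N.Normal ∧ A ≤ Subgroup.center G ∧ N ⊓ A = ⊥ ∧ N ⊔ A = ⊤ ∧
      Nonempty (N ≃* G ⧸ Subgroup.center G)

end CfsgLib.Recog.ClassPSL
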