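import Cfsg.Agent.Lib.Recog.ClassPSL.Defs
import Cfsg.Agent.S4137
import Cfsg.Agent.Lib.Recog.CITGraph.Model
import Cfsg.Agent.Lib.OddLocal.QuadPair

/-!
The class sizes of `PSL(2,2^f)` determine the central quotient: three pairwise isolated sizes fix its
order, commuting pairs lift, and a group without centre and with three sizes is soluble or
`PSL(2,2^a)`; the minimal normal subgroup of a soluble one would be too large.
-/

set_option autoImplicit false
set_option linter.unusedSectionVars false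
set_option linter.style.haveILetI false

namespace CfsgLib.Recog.ClassPSL

open CfsgLib.StructC.ClassCoprime

universe u

theorem prime_pow_dvd_mul {p k x y : ℕ} (hp : p.Prime) (hxy : x.Coprime y) (h : p ^ k ∣ x * y) :
    p ^ k ∣ x ∨ p ^ k ∣ y := by
  by_cases hx : p ∣ x
  · refine Or.inl (((hp.coprime_iff_not_dvd.2 fun hy => ?_).pow_left k).dvd_of_dvd_mul_right h)
    exact hp.ne_one (Nat.eq_one_of_dvd_coprimes hxy hx hy)
  · exact Or.inr (((hp.coprime_iff_not_dvd.2 hx).pow_left k).dvd_of_dvd_mul_left h)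

theorem eq_of_cube {n m : ℕ} (hn : 2 ≤ n) (hm : 2 ≤ m)
    (h : n * (n ^ 2 - 1) = m * (m ^ 2 - 1)) : n = m := by
  have key : ∀ {a b : ℕ}, 2 ≤ a → a < b → a * (a ^ 2 - 1) < b * (b ^ 2 - 1) := fun {a b} ha hab =>
    Nat.mul_lt_mul_of_lt_of_le hab (Nat.sub_le_sub_right (Nat.pow_le_pow_left hab.le 2) 1)
      (Nat.sub_pos_of_lt (Nat.one_lt_pow two_ne_zero (by omega)))
  rcases lt_trichotomy n m with hl | hl | hl
  · exact absurd h (key hn hl).ne
  · exact hl
  · exact absurd h (key hm hl).ne'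

variable {G : Type u} [Group G] [Finite G]

local notation "Z" => Subgroup.center G
local notation "Q" => G ⧸ Subgroup.center G

/-- The class sizes of `PSL(2,q)`, `q = a + 1 = b - 1` even. -/
structure EvenSizes (G : Type u) [Group G] (q a b : ℕ) : Prop where
  four : 4 ≤ q
  two : 2 ∣ q
  two_pow : ∃ i, q = 2 ^ i
  pa : q = a + 1
  pb : b = q + 1
  range : Set.range (cs : G → ℕ) = {1, q * a, a * b, q * b}

namespace EvenSizes

variable {q a b : ℕ} (h : EvenSizes G q a b)
include h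

theorem oddA : Odd a := by
  rcases Nat.even_or_odd a with ⟨k, hk⟩ | e
  · obtain ⟨j, hj⟩ := h.two
    have := h.pa
    omega
  · exact e

theorem cop_qa : q.Coprime a := by rw [h.pa]; simp [Nat.Coprime]

theorem cop_qb : q.Coprime b := by rw [h.pb]; simp [Nat.Coprime]

theorem cop_ab : a.Coprime b := by
  rw [h.pb, h.pa, show a + 1 + 1 = a + 2 from rfl, Nat.coprime_self_add_right]
  exact Nat.coprime_two_right.2 h.oddA

theorem cs_cases {x : G} (hx : x ∉ Z) : cs x = q * a ∨ cs x = a * b ∨ cs x = q * b := by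
  have h1 : cs x ∈ Set.range (cs : G → ℕ) := ⟨x, rfl⟩
  rw [h.range] at h1
  simp only [Set.mem_insert_iff, Set.mem_singleton_iff] at h1
  exact h1.resolve_left fun e => hx (cs_eq_one_iff.1 e)

theorem exists_cs {d : ℕ} (hd : d = q * a ∨ d = a * b ∨ d = q * b) : ∃ x : G, x ∉ Z ∧ cs x = d := by
  have h1 : d ∈ Set.range (cs : G → ℕ) := by
    rw [h.range]
    simp only [Set.mem_insert_iff, Set.mem_singleton_iff]
    rcases hd with e | e | e <;> simp [e]
  obtain ⟨x, hx⟩ := h1
  refine ⟨x, fun hZ => ?_, hx⟩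
  have h2 := cs_eq_one_iff.2 hZ
  have := h.four; have := h.pa; have := h.pb
  rcases hd with e | e | e <;> rw [hx, e, mul_eq_one] at h2 <;> omega

theorem not_dvd {x y z : ℕ} (hx : x = q ∨ x = a ∨ x = b) (hy : x.Coprime y) (hz : x.Coprime z) :
    ¬ x ∣ y * z := fun hd => by
  have e := Nat.eq_one_of_dvd_coprimes (hy.mul_right hz) dvd_rfl hd
  have := h.four; have := h.pa; have := h.pb
  omega

theorem isolated {d : ℕ} (hd : d = q * a ∨ d = a * b ∨ d = q * b) : Isolated G d := by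
  have nq := h.not_dvd (Or.inl rfl) h.cop_qa h.cop_qb
  have na := h.not_dvd (Or.inr (Or.inl rfl)) h.cop_qa.symm h.cop_ab
  have nb := h.not_dvd (Or.inr (Or.inr rfl)) h.cop_qb.symm h.cop_ab.symm
  intro x hx hor
  rcases h.cs_cases hx with e | e | e <;> rcases hd with rfl | rfl | rfl <;>
    first
    | exact e
    | (exfalso; rw [e] at hor; rcases hor with o | o <;>
        first
        | exact nq ((dvd_mul_right q _).trans o)
        | exact na ((dvd_mul_right a _).trans o)
        | exact na ((dvd_mul_left a _).trans o)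
        | exact nb ((dvd_mul_left b _).trans o))

theorem index_eq : (Subgroup.center G).index = q * a * b := by
  have := h.four; have hpa := h.pa; have hpb := h.pb
  obtain ⟨x₁, hx₁, e₁⟩ := h.exists_cs (Or.inl rfl)
  obtain ⟨x₂, hx₂, e₂⟩ := h.exists_cs (d := a * b) (Or.inr (Or.inl rfl))
  obtain ⟨x₃, hx₃, e₃⟩ := h.exists_cs (d := q * b) (Or.inr (Or.inr rfl))
  have hm0 : (Subgroup.center G).index ≠ 0 := Subgroup.index_ne_zero_of_finite
  have hab : a * b ∣ (Subgroup.center G).index := ⟨nc x₂, by rw [← nc_mul_cs x₂, e₂, mul_comm]⟩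
  have hq : q ∣ (Subgroup.center G).index := ⟨nc x₁ * a, by rw [← nc_mul_cs x₁, e₁]; ring⟩
  have hL : q * a * b ∣ (Subgroup.center G).index := by
    rw [mul_assoc]; exact (h.cop_qa.mul_right h.cop_qb).mul_dvd_of_dvd_of_dvd hq hab
  have hL0 : q * a * b ≠ 0 :=
    mul_ne_zero (mul_ne_zero (by omega) (by omega)) (by omega)
  have hq2 : 2 ∣ nc x₂ := h.two.trans ((h.cop_qa.mul_right h.cop_qb).dvd_of_dvd_mul_right (by
    rw [← e₂, nc_mul_cs]; exact hq))
  obtain ⟨l, hl, hlb⟩ := Nat.exists_prime_and_dvd (show b ≠ 1 by omega)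
  have hlx : l ∣ nc x₁ := hlb.trans ((h.cop_qb.symm.mul_right h.cop_ab.symm).dvd_of_dvd_mul_right (by
    rw [← e₁, nc_mul_cs]; exact (dvd_mul_left b _).trans hL))
  refine Nat.dvd_antisymm ((Nat.factorization_le_iff_dvd hm0 hL0).1 fun r => ?_) hL
  by_cases hr : r.Prime
  swap
  · simp [Nat.factorization_eq_zero_of_not_prime _ hr]
  have key : ∀ v : G, ¬ r ∣ nc v → cs v ∣ q * a * b →
      (Subgroup.center G).index.factorization r ≤ (q * a * b).factorization r := by
    intro v hv hdv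
    rw [← nc_mul_cs v, Nat.factorization_mul (fun e => hm0 (by rw [← nc_mul_cs v, e, zero_mul]))
      Subgroup.index_ne_zero_of_finite, Finsupp.add_apply, Nat.factorization_eq_zero_of_not_dvd hv, zero_add]
    exact (Nat.factorization_le_iff_dvd Subgroup.index_ne_zero_of_finite hL0).2 hdv r
  have na := h.not_dvd (Or.inr (Or.inl rfl)) h.cop_qa.symm h.cop_ab
  have nb := h.not_dvd (Or.inr (Or.inr rfl)) h.cop_qb.symm h.cop_ab.symm
  have nq := h.not_dvd (Or.inl rfl) h.cop_qa h.cop_qb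
  by_cases hr2 : r = 2
  · subst hr2
    refine key x₁ ?_ (e₁ ▸ dvd_mul_right _ _)
    refine (h.isolated (Or.inl rfl)).not_dvd_nc hx₁ e₁ hr hl ?_ hlx hx₂ ?_ ?_
    · rintro rfl
      exact hl.ne_one (Nat.eq_one_of_dvd_coprimes h.cop_qb h.two hlb)
    · rw [e₂]; exact fun e => nq (e ▸ dvd_mul_right q a)
    · rw [e₂]
      exact fun hd => hr.ne_one (Nat.eq_one_of_dvd_coprimes (h.cop_qa.mul_right h.cop_qb) h.two hd)
  · refine key x₂ ?_ (e₂ ▸ ⟨q, by ring⟩)
    by_cases hra : r ∣ q * a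
    · refine (h.isolated (Or.inr (Or.inl rfl))).not_dvd_nc hx₂ e₂ hr Nat.prime_two (Ne.symm hr2) hq2
        hx₃ (by rw [e₃]; exact fun e => na (e ▸ dvd_mul_right a b)) ?_
      rw [e₃]
      intro hd
      rcases hr.dvd_mul.1 hd with hrq | hrb
      · rcases hr.dvd_mul.1 hra with _ | hra'
        · obtain ⟨i, hi⟩ : ∃ i, q = 2 ^ i := h.two_pow
          exact hr2 ((Nat.prime_dvd_prime_iff_eq hr Nat.prime_two).1 (hr.dvd_of_dvd_pow (hi ▸ hrq)))
        · exact hr.ne_one (Nat.eq_one_of_dvd_coprimes h.cop_qa hrq hra')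
      · rcases hr.dvd_mul.1 hra with hrq | hra'
        · exact hr.ne_one (Nat.eq_one_of_dvd_coprimes h.cop_qb hrq hrb)
        · exact hr.ne_one (Nat.eq_one_of_dvd_coprimes h.cop_ab hra' hrb)
    · exact (h.isolated (Or.inr (Or.inl rfl))).not_dvd_nc hx₂ e₂ hr Nat.prime_two (Ne.symm hr2) hq2
        hx₁ (by rw [e₁]; exact fun e => nb (e ▸ dvd_mul_left b a)) (by rwa [e₁])

theorem lifts_and_cs : Lifts G ∧ ∀ x : G, cs (x : Q) = cs x := by
  suffices H : ∀ x : G, cs (x : Q) = cs x ∧ ∀ w : G, Commute (w : Q) (x : Q) → w * x = x * w from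
    ⟨fun x w hw => (H x).2 w hw, fun x => (H x).1⟩
  intro x
  obtain ⟨j, hj, hjl, hj1⟩ := cs_quotient x
  suffices hj' : j = 1 from ⟨by rw [← hj, hj', mul_one], hj1 hj'⟩
  by_contra hne
  obtain ⟨l, hl, hlj⟩ := Nat.exists_prime_and_dvd hne
  have hlc : l ∣ cs x := hlj.trans ⟨_, by rw [← hj, mul_comm]⟩
  have hord : orderOf (x : Q) ∣ nc x := orderOf_dvd_of_pow_eq_one (by
    rw [← QuotientGroup.mk_pow]
    exact (QuotientGroup.eq_one_iff _).2 (pow_nc_mem (mem_cent.2 rfl)))
  have hn : nc x * cs x = q * a * b := by rw [nc_mul_cs, h.index_eq]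
  by_cases hx : x ∈ Z
  · exact hl.not_dvd_one (cs_eq_one_iff.2 hx ▸ hlc)
  have := h.four; have := h.pa; have := h.pb
  have fin : ∀ {n : ℕ}, nc x = n → n.Coprime (cs x) → False := fun {n} e hc =>
    hl.ne_one (Nat.eq_one_of_dvd_coprimes hc ((hjl l hl hlj).trans (e ▸ hord)) hlc)
  rcases h.cs_cases hx with e | e | e <;> rw [e] at hn
  · exact fin (n := b) (Nat.eq_of_mul_eq_mul_right (show 0 < q * a from Nat.mul_pos (by omega) (by omega))
      (by rw [hn]; ring)) (e ▸ h.cop_qb.symm.mul_right h.cop_ab.symm)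
  · exact fin (n := q) (Nat.eq_of_mul_eq_mul_right (show 0 < a * b from Nat.mul_pos (by omega) (by omega))
      (by rw [hn]; ring)) (e ▸ h.cop_qa.mul_right h.cop_qb)
  · exact fin (n := a) (Nat.eq_of_mul_eq_mul_right (show 0 < q * b from Nat.mul_pos (by omega) (by omega))
      (by rw [hn]; ring)) (e ▸ h.cop_qa.symm.mul_right h.cop_ab)

theorem center_quot : Subgroup.center Q = ⊥ := by
  refine (Subgroup.eq_bot_iff_forall _).2 fun g hg => ?_
  obtain ⟨x, rfl⟩ := QuotientGroup.mk_surjective g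
  refine (QuotientGroup.eq_one_iff x).2 (cs_eq_one_iff.1 ?_)
  rw [← h.lifts_and_cs.2 x]
  exact cs_eq_one_iff.2 hg

theorem card_quot : Nat.card Q = q * a * b := by rw [← Subgroup.index_eq_card, h.index_eq]

/-- The central quotient is not soluble. -/
theorem not_solvable : ¬ Group.IsSolvable Q := by
  intro hs
  have := h.four; have hpa := h.pa; have hpb := h.pb
  haveI : Nontrivial Q := by
    rw [← Finite.one_lt_card_iff_nontrivial, h.card_quot]
    calc 1 < 4 * 1 * 1 := by norm_num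
      _ ≤ q * a * b := Nat.mul_le_mul (Nat.mul_le_mul (by omega) (by omega)) (by omega)
  obtain ⟨D, hDn, hD1, hDc⟩ := CfsgLib.OddLocal.exists_abelian_normal Q
  obtain ⟨p, hp, hpD⟩ := Nat.exists_prime_and_dvd (show Nat.card D ≠ 1 from
    fun e => hD1 (Subgroup.card_eq_one.1 e))
  haveI := Fact.mk hp
  obtain ⟨⟨d, hdD⟩, hd⟩ := exists_prime_orderOf_dvd_card' (G := D) p hpD
  rw [Subgroup.orderOf_mk] at hd
  have hc : ∀ u ∈ D, ∀ v ∈ D, Commute u v := fun u hu v hv =>
    congrArg Subtype.val (hDc.is_comm.comm ⟨u, hu⟩ ⟨v, hv⟩)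
  let M : Subgroup Q :=
    { carrier := {v | v ∈ D ∧ v ^ p = 1}
      one_mem' := ⟨one_mem _, one_pow _⟩
      mul_mem' := fun {u v} hu hv => ⟨mul_mem hu.1 hv.1, by
        rw [(hc u hu.1 v hv.1).mul_pow, hu.2, hv.2, one_mul]⟩
      inv_mem' := fun {u} hu => ⟨inv_mem hu.1, by rw [inv_pow, hu.2, inv_one]⟩ }
  have hMp : IsPGroup p M := fun v => ⟨1, Subtype.ext (by
    rw [pow_one, SubgroupClass.coe_pow]; exact v.2.2)⟩
  have hd1 : d ≠ 1 := fun e => hp.ne_one (by rw [← hd, e, orderOf_one])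
  have hsub : insert (1 : Q) (cl d) ⊆ (M : Set Q) := by
    rintro v (rfl | ⟨c, rfl⟩)
    · exact one_mem M
    · exact ⟨hDn.conj_mem d hdD c, by
        rw [conj_pow, ← hd, pow_orderOf_eq_one, mul_one, mul_inv_cancel]⟩
  have h1 : (1 : Q) ∉ cl d := by
    rintro ⟨c, hc'⟩
    exact hd1 (conj_eq_one_iff.1 (show c * d * c⁻¹ = 1 from hc'))
  have hcard := Set.ncard_le_ncard hsub
  rw [Set.ncard_insert_of_notMem h1, ncard_cl, ← Nat.card_coe_set_eq, SetLike.coe_sort_coe] at hcard
  obtain ⟨x, rfl⟩ := QuotientGroup.mk_surjective d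
  have hx : x ∉ Z := fun e => hd1 ((QuotientGroup.eq_one_iff x).2 e)
  rw [h.lifts_and_cs.2 x] at hcard
  obtain ⟨k, hk⟩ := IsPGroup.iff_card.1 hMp
  have hdvd : p ^ k ∣ q * a * b := hk ▸ h.card_quot ▸ Subgroup.card_subgroup_dvd_card M
  have hle : p ^ k ≤ q + 1 := by
    rcases prime_pow_dvd_mul hp (h.cop_qb.mul_left h.cop_ab) hdvd with e | e
    · rcases prime_pow_dvd_mul hp h.cop_qa e with e | e <;> have := Nat.le_of_dvd (by omega) e <;> omega
    · have := Nat.le_of_dvd (by omega) e; omega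
  have hbig : 3 * q ≤ cs x := by
    rcases h.cs_cases hx with e | e | e <;> rw [e]
    · rw [mul_comm]; exact Nat.mul_le_mul_left q (by omega)
    · exact Nat.mul_le_mul (by omega) (by omega)
    · rw [mul_comm]; exact Nat.mul_le_mul_left q (by omega)
  rw [hk] at hcard
  omega

end EvenSizes

theorem evenCase : EvenCase.{u} := by
  intro G _ _ f hf hrange
  set q := 2 ^ f with hq
  have h4 : 4 ≤ q := le_trans (by norm_num) (Nat.pow_le_pow_right (show 0 < 2 by norm_num) hf)
  have hs : EvenSizes G q (q - 1) (q + 1) :=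
    { four := h4
      two := dvd_pow_self 2 (by omega)
      two_pow := ⟨f, rfl⟩
      pa := by omega
      pb := rfl
      range := by
        rw [hrange, show q ^ 2 - 1 = (q - 1) * (q + 1) by
          rw [mul_comm, ← Nat.sq_sub_sq, one_pow]] }
  refine ⟨hs.lifts_and_cs.1, ?_⟩
  have hsub : {n : ℕ | 1 < n ∧ ∃ x : G ⧸ Subgroup.center G,
      (Subgroup.centralizer ({x} : Set (G ⧸ Subgroup.center G))).index = n} ⊆
      {q * (q - 1), (q - 1) * (q + 1), q * (q + 1)} := by
    rintro n ⟨hn, g, hg⟩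
    obtain ⟨x, rfl⟩ := QuotientGroup.mk_surjective g
    have hg' : cs x = n := (hs.lifts_and_cs.2 x).symm.trans hg
    have hx : x ∉ Subgroup.center G := fun e => by
      rw [cs_eq_one_iff.2 e] at hg'
      omega
    simp only [Set.mem_insert_iff, Set.mem_singleton_iff]
    rw [← hg']
    exact hs.cs_cases hx
  rcases Cfsg.Agent.S4137.result hs.center_quot (by
    rw [Nat.card_coe_set_eq]
    exact (Set.ncard_le_ncard hsub).trans (le_trans (Set.ncard_insert_le _ _)
      (by have := Set.ncard_insert_le ((q - 1) * (q + 1)) ({q * (q + 1)} : Set ℕ)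
          rw [Set.ncard_singleton] at this
          omega))) with hsol | ⟨a, ha, ⟨e⟩⟩
  · exact absurd hsol hs.not_solvable
  haveI := Fact.mk Nat.prime_two
  letI := Fintype.ofFinite (GaloisField 2 a)
  have hF : Fintype.card (GaloisField 2 a) = 2 ^ a := by
    rw [← Nat.card_eq_fintype_card, GaloisField.card 2 a (by omega)]
  have hc := Nat.card_congr e.toEquiv
  rw [hs.card_quot, CfsgLib.Recog.CITGraph.card_psl_even (F := GaloisField 2 a) ha hF,
    mul_comm 2 a, pow_mul, mul_assoc, show (q - 1) * (q + 1) = q ^ 2 - 1 by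
      rw [mul_comm, ← Nat.sq_sub_sq, one_pow]] at hc
  exact ⟨GaloisField 2 a, inferInstance, inferInstance,
    hF.trans (eq_of_cube (Nat.le_self_pow (by omega) 2) (by omega) hc.symm), ⟨e⟩⟩

end CfsgLib.Recog.ClassPSL
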