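import Cfsg.Agent.Lib.Recog.ClassPSL.Simple
import Cfsg.Agent.Lib.Classical.PSLTwoPerm
import Cfsg.Agent.S1230

/-!
The simple central quotient has one class of involutions, with centralisers of order `2b`.
-/

set_option autoImplicit false
set_option linter.unusedSectionVars false
set_option linter.style.haveILetI false

namespace CfsgLib.Recog.ClassPSL

open CfsgLib.StructC.ClassCoprime CfsgLib.Invol
open scoped _root_.Classical

universe u

variable {G : Type u} [Group G] [Fintype G] {q a b : ℕ}

local notation "cen(" x ")" => Subgroup.centralizer ({x} : Set G)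

/-- A finite group in which more than three quarters of the elements square to `1` has exponent two. -/
theorem sq_one_of_many {K : Type*} [Group K] [Fintype K]
    (h : 3 * Fintype.card K < 4 * (Finset.univ.filter fun x : K => x * x = 1).card) (y : K) : y * y = 1 := by
  set S := Finset.univ.filter fun x : K => x * x = 1 with hS
  have key : ∀ w : K, 2 * S.card ≤ (S ∩ S.image (w * ·)).card + Fintype.card K := fun w => by
    have h1 := Finset.card_union_add_card_inter S (S.image (w * ·))
    rw [Finset.card_image_of_injective _ (mul_right_injective w)] at h1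
    have := Finset.card_le_univ (S ∪ S.image (w * ·))
    omega
  have hmem : ∀ x ∈ S, x * x = 1 := fun x hx => (Finset.mem_filter.1 hx).2
  have hcen : ∀ x ∈ S, ∀ g : K, g * x = x * g := by
    intro x hx g
    set C := Subgroup.centralizer ({x} : Set K)
    suffices C = ⊤ from mem_cent.1 (this ▸ Subgroup.mem_top g : g ∈ C)
    have hsub : ∀ z ∈ S ∩ S.image (x * ·), z ∈ C := by
      intro z hz
      obtain ⟨hz, hz'⟩ := Finset.mem_inter.1 hz
      obtain ⟨w, hw, rfl⟩ := Finset.mem_image.1 hz'
      refine mem_cent.2 ?_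
      have h1 := hmem _ hz
      have h2 := hmem w hw
      have h3 := hmem x hx
      show x * w * x = x * (x * w)
      rw [← mul_assoc x x, h3, one_mul]
      calc x * w * x = x * w * x * (w * w) := by rw [h2, mul_one]
        _ = x * w * (x * w) * w := by group
        _ = w := by rw [h1, one_mul]
    have h1 : (S ∩ S.image (x * ·)).card ≤ Nat.card C := by
      rw [← Nat.card_eq_finsetCard]
      exact Nat.card_le_card_of_injective (fun z => (⟨z.1, hsub z.1 z.2⟩ : C))
        fun u v e => Subtype.ext (congrArg (fun w : C => (w : K)) e :)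
    refine Subgroup.index_eq_one.1 ?_
    have h2 := C.card_mul_index
    rw [Nat.card_eq_fintype_card (α := K)] at h2
    have h3 := key x
    have h4 := C.index_ne_zero_of_finite
    by_contra hne
    have h5 : Nat.card C * 2 ≤ Nat.card C * C.index := Nat.mul_le_mul_left _ (by omega)
    omega
  obtain ⟨s, hs⟩ : (S ∩ S.image (y * ·)).Nonempty := Finset.card_pos.1 (by have := key y; omega)
  obtain ⟨hs, hs'⟩ := Finset.mem_inter.1 hs
  obtain ⟨w, hw, rfl⟩ := Finset.mem_image.1 hs'
  have h1 : y = y * w * w := by rw [mul_assoc, hmem w hw, mul_one]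
  rw [h1]
  calc y * w * w * (y * w * w) = y * w * (w * (y * w)) * w := by group
    _ = y * w * (y * w) * (w * w) := by rw [← hcen w hw (y * w)]; group
    _ = 1 := by rw [hmem _ hs, hmem w hw, one_mul]

namespace Data

variable (d : Data G q a b)
include d

theorem cen_even_cases {g : G} (hg : g ≠ 1) (he : Even (Nat.card cen(g))) :
    Nat.card cen(g) = b ∨ Nat.card cen(g) = 2 * b := by
  rcases d.cases' g hg with c | c | c | c <;> rw [c] at he ⊢
  · exact absurd he (Nat.not_even_iff_odd.2 d.toParams.q_odd)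
  · exact absurd he (Nat.not_even_iff_odd.2 d.oddA)
  · exact Or.inl rfl
  · exact Or.inr rfl

theorem invol_cases {v : G} (hv : orderOf v = 2) : Nat.card cen(v) = b ∨ Nat.card cen(v) = 2 * b :=
  d.cen_even_cases (invol_ne_one hv) (even_iff_two_dvd.2 (hv ▸ orderOf_dvd_cen v))

theorem exists_big : ∃ t : G, orderOf t = 2 ∧ Nat.card cen(t) = 2 * b := by
  haveI : Fact (Nat.Prime 2) := ⟨Nat.prime_two⟩
  obtain ⟨T⟩ : Nonempty (Sylow 2 G) := inferInstance
  have hb := d.four
  set v := (Nat.card G).factorization 2 with hv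
  have hv1 : v = 1 + b.factorization 2 := by
    rw [hv, d.card, show 2 * a * b * q = (a * q) * (2 * b) by ring,
      Nat.factorization_mul (Nat.mul_pos d.toParams.a_pos d.toParams.q_pos).ne' (by omega),
      Finsupp.add_apply, Nat.factorization_eq_zero_of_not_dvd (fun h =>
        Nat.not_even_iff_odd.2 (d.oddA.mul d.toParams.q_odd) (even_iff_two_dvd.2 h)),
      Nat.factorization_mul (by norm_num) (by omega), Finsupp.add_apply, Nat.Prime.factorization_self Nat.prime_two,
      zero_add]
  haveI : Nontrivial (T : Subgroup G) := by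
    rw [← Finite.one_lt_card_iff_nontrivial, T.card_eq_multiplicity]
    exact Nat.one_lt_pow (by rw [← hv]; omega) (by norm_num)
  haveI := T.isPGroup'.center_nontrivial
  have hdvd : 2 ∣ Nat.card (Subgroup.center (T : Subgroup G)) := by
    obtain ⟨n, hn⟩ := IsPGroup.iff_card.1 (T.isPGroup'.to_subgroup (Subgroup.center _))
    have := Finite.one_lt_card_iff_nontrivial.2 (inferInstance : Nontrivial (Subgroup.center (T : Subgroup G)))
    rw [hn] at this ⊢
    exact dvd_pow_self 2 fun e => by rw [e] at this; omega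
  obtain ⟨z, hz⟩ := exists_prime_orderOf_dvd_card' (G := Subgroup.center (T : Subgroup G)) 2 hdvd
  have ht : orderOf ((z : (T : Subgroup G)) : G) = 2 := by rw [Subgroup.orderOf_coe, Subgroup.orderOf_coe, hz]
  refine ⟨_, ht, (d.invol_cases ht).resolve_left fun hc => ?_⟩
  have hle : (T : Subgroup G) ≤ cen(((z : (T : Subgroup G)) : G)) := fun g hg =>
    mem_cent.2 (congrArg Subtype.val (Subgroup.mem_center_iff.1 z.2 ⟨g, hg⟩))
  have h1 := Subgroup.card_dvd_of_le hle
  rw [hc, T.card_eq_multiplicity, ← hv, hv1, Nat.Prime.pow_dvd_iff_le_factorization Nat.prime_two (by omega)] at h1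
  omega

/-- The centraliser of an involution of order `2b` is not elementary abelian. -/
theorem not_elementary [IsSimpleGroup G] {z : G} (h2b : Nat.card cen(z) = 2 * b)
    (he : ∀ x ∈ cen(z), x * x = 1) : False := by
  haveI : Fact (Nat.Prime 2) := ⟨Nat.prime_two⟩
  have hb := d.four
  have hp : IsPGroup 2 cen(z) := fun x => ⟨1, Subtype.ext (by
    rw [pow_one, pow_two]; exact he x x.2)⟩
  obtain ⟨k, hk⟩ := IsPGroup.iff_card.1 hp
  have hkv : Nat.card cen(z) = 2 ^ (Nat.card G).factorization 2 := by
    rw [d.card, show 2 * a * b * q = (a * q) * (2 * b) by ring,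
      Nat.factorization_mul (Nat.mul_pos d.toParams.a_pos d.toParams.q_pos).ne' (by omega),
      Finsupp.add_apply, Nat.factorization_eq_zero_of_not_dvd (fun h =>
        Nat.not_even_iff_odd.2 (d.oddA.mul d.toParams.q_odd) (even_iff_two_dvd.2 h)), zero_add, ← h2b, hk,
      Nat.factorization_pow_self Nat.prime_two]
  let T : Sylow 2 G := Sylow.ofCard _ hkv
  have hT : ((T : Subgroup G) : Subgroup G) = cen(z) := rfl
  have habT : ∀ x ∈ cen(z), ∀ y ∈ cen(z), x * y = y * x := fun x hx y hy => by
    have h1 := he _ (mul_mem hx hy)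
    have hx2 := he x hx
    have hy2 := he y hy
    rw [← inv_eq_of_mul_eq_one_right h1, mul_inv_rev, inv_eq_of_mul_eq_one_right hx2,
      inv_eq_of_mul_eq_one_right hy2]
  have hC : ∀ t : G, orderOf t = 2 → IsMulCommutative cen(t) ∧ ∀ c ∈ cen(t), c ^ 2 = 1 := by
    intro t ht
    obtain ⟨g, hg⟩ := exists_conj_invol_mem_sylow T ht
    have heq : cen(g * t * g⁻¹) = cen(z) := by
      refine (Subgroup.eq_of_le_of_card_ge (fun x hx => mem_cent.2 (habT x hx _ hg)) ?_).symm
      rw [h2b]
      rcases d.invol_cases (v := g * t * g⁻¹) (by rw [orderOf_conj_eq]; exact ht) with c | c <;> omega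
    have hsq : ∀ c ∈ cen(t), c * c = 1 := fun c hc => by
      have h1 : g * c * g⁻¹ ∈ cen(g * t * g⁻¹) := by
        rw [cen_conj_map]; exact ⟨c, hc, rfl⟩
      rw [heq] at h1
      have h2 := he _ h1
      rw [show g * c * g⁻¹ * (g * c * g⁻¹) = g * (c * c) * g⁻¹ by group] at h2
      exact conj_eq_one_iff.1 h2
    refine ⟨⟨⟨fun x y => Subtype.ext ?_⟩⟩, fun c hc => by rw [pow_two]; exact hsq c hc⟩
    show (x : G) * y = y * x
    have h1 := hsq _ (mul_mem x.2 y.2)
    rw [← inv_eq_of_mul_eq_one_right h1, mul_inv_rev, inv_eq_of_mul_eq_one_right (hsq _ x.2),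
      inv_eq_of_mul_eq_one_right (hsq _ y.2)]
  have hcardT : Nat.card (T : Subgroup G) = 2 * b := h2b
  have hnc : ¬ IsCyclic (T : Subgroup G) := by
    intro hc
    obtain ⟨g, hg⟩ := hc.exists_generator
    have h1 : Nat.card (T : Subgroup G) = orderOf g := (orderOf_eq_card_of_forall_mem_zpowers hg).symm
    have h2 : orderOf g ∣ 2 := orderOf_dvd_of_pow_eq_one (Subtype.ext (by
      rw [pow_two]; exact he g g.2))
    have := Nat.le_of_dvd (by norm_num) h2
    omega
  have hnn : ¬ (T : Subgroup G).Normal := by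
    intro hn
    rcases IsSimpleGroup.eq_bot_or_eq_top_of_normal _ hn with e | e <;> rw [e] at hcardT
    · rw [Subgroup.card_bot] at hcardT; omega
    · rw [Subgroup.card_top, d.card] at hcardT
      have h1 : 2 * 3 * b * 7 ≤ 2 * a * b * q :=
        Nat.mul_le_mul (Nat.mul_le_mul (Nat.mul_le_mul le_rfl d.toParams.a_ge) le_rfl) d.toParams.q_ge
      omega
  obtain ⟨F, _, _, hF, ⟨e⟩⟩ := Cfsg.Agent.S1230.result T hnc hnn hC
  have h1 := CfsgLib.Classical.card_psl_two_mul (F := F)
  rw [← Nat.card_congr e.toEquiv, d.card, hF, hcardT] at h1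
  have hg1 : Nat.gcd 2 (2 * b - 1) = 1 := Nat.coprime_two_left.2 ⟨b - 1, by omega⟩
  rw [hg1, one_mul, show 2 * a * b * q = 2 * b * (a * q) by ring] at h1
  have h2 := Nat.eq_of_mul_eq_mul_left (by omega) h1
  have hs := d.sum
  have h3 : a * q ≤ (b + 1) * (2 * b + 1) := Nat.mul_le_mul (by rcases d.near with c | c <;> omega)
    (by rcases d.near with c | c <;> omega)
  have h4 : (2 * b) ^ 2 = 4 * (b * b) := by ring
  have h5 : (b + 1) * (2 * b + 1) = 2 * (b * b) + 3 * b + 1 := by ring
  have h6 : 4 * b ≤ b * b := Nat.mul_le_mul_right _ hb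
  omega

theorem card_class {t : G} : Nat.card cen(t) * (Finset.univ.filter fun v => IsConj t v).card = 2 * a * b * q := by
  have h1 : (Finset.univ.filter fun v => IsConj t v).card = cs t := by
    rw [← ncard_cl, ← Set.ncard_coe_finset]
    congr 1
    ext v
    rw [Finset.coe_filter, Set.mem_ofPred_eq, isConj_iff]
    exact ⟨fun ⟨_, c, hc⟩ => ⟨c, hc⟩, fun ⟨c, hc⟩ => ⟨Finset.mem_univ _, c, hc⟩⟩
  rw [h1, ← d.card]
  exact cen(t).card_mul_index

/-- The number of involutions commuting with an involution is at most `3b/2`. -/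
theorem card_invol_cen_le [IsSimpleGroup G] {z : G} (hz : orderOf z = 2) :
    2 * (Finset.univ.filter fun v => orderOf v = 2 ∧ v ∈ cen(z)).card ≤ 3 * b := by
  set H := cen(z)
  set S := Finset.univ.filter fun x : H => x * x = 1
  have hle : (Finset.univ.filter fun v => orderOf v = 2 ∧ v ∈ H).card + 1 ≤ S.card := by
    rw [← Finset.card_insert_of_notMem (a := (1 : G)) (by simp)]
    refine le_of_le_of_eq (Finset.card_le_card (t := S.image Subtype.val) fun v hv => ?_)
      (Finset.card_image_of_injective _ Subtype.val_injective)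
    simp only [Finset.mem_insert, Finset.mem_filter, Finset.mem_univ, true_and] at hv
    refine Finset.mem_image.2 ?_
    rcases hv with rfl | ⟨hv, hv'⟩
    · exact ⟨1, by simp [S], rfl⟩
    · exact ⟨⟨v, hv'⟩, Finset.mem_filter.2 ⟨Finset.mem_univ _, Subtype.ext (invol_mul_self hv)⟩, rfl⟩
  have hS : S.card ≤ Fintype.card H := Finset.card_le_univ _
  rw [← Nat.card_eq_fintype_card] at hS
  rcases d.invol_cases hz with c | c
  · rw [c] at hS; omega
  rw [c] at hS
  by_cases hmany : 3 * Fintype.card H < 4 * S.card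
  · exact (d.not_elementary c fun x hx => congrArg Subtype.val (sq_one_of_many (K := H) (by convert hmany using 3; ext; simp [S]) ⟨x, hx⟩)).elim
  · rw [← Nat.card_eq_fintype_card, c] at hmany
    omega

/-- All involutions are conjugate. -/
theorem isConj_invol [IsSimpleGroup G] {u w : G} (hu : orderOf u = 2) (hw : orderOf w = 2) : IsConj u w := by
  obtain ⟨t, ht, htb⟩ := d.exists_big
  suffices hall : ∀ v : G, orderOf v = 2 → IsConj t v from (hall u hu).symm.trans (hall w hw)
  by_contra hcon
  push Not at hcon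
  obtain ⟨r, hr, hrt⟩ := hcon
  have hq := d.toParams.q_ge; have ha := d.toParams.a_ge; have hb := d.four; have hs := d.sum
  set K := Finset.univ.filter fun v => IsConj t v
  set R := Finset.univ.filter fun v => orderOf v = 2 ∧ ¬ IsConj t v
  have hKinv : ∀ v ∈ K, orderOf v = 2 := fun v hv =>
    (orderOf_eq_of_isConj (Finset.mem_filter.1 hv).2).trans ht
  have hK : K.card = q * a := by
    have h1 := d.card_class (t := t)
    rw [htb, show 2 * a * b * q = 2 * b * (q * a) by ring] at h1
    exact Nat.eq_of_mul_eq_mul_left (by omega) h1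
  have hR : q * a ≤ R.card := by
    refine le_trans ?_ (Finset.card_le_card (s := Finset.univ.filter fun v => IsConj r v) fun v hv => ?_)
    · have h1 := d.card_class (t := r)
      refine Nat.le_of_mul_le_mul_left (?_ : 2 * b * (q * a) ≤ 2 * b * _) (by omega)
      rw [show 2 * b * (q * a) = 2 * a * b * q by ring, ← h1]
      refine Nat.mul_le_mul_right _ ?_
      rcases d.invol_cases hr with c | c <;> omega
    · simp only [R, Finset.mem_filter, Finset.mem_univ, true_and] at hv ⊢
      exact ⟨(orderOf_eq_of_isConj hv).trans hr, fun h => hrt (h.trans hv.symm)⟩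
  set Z₂ := Finset.univ.filter fun v : G => orderOf v = 2
  have hcover : K ×ˢ R ⊆ Z₂.biUnion fun z =>
      (K.filter fun v => v ∈ cen(z)) ×ˢ (R.filter fun v => v ∈ cen(z)) := by
    rintro ⟨k, l⟩ hkl
    obtain ⟨hk, hl⟩ := Finset.mem_product.1 hkl
    obtain ⟨hl2, hlt⟩ := (Finset.mem_filter.1 hl).2
    obtain ⟨z, hz, hzk, hzl⟩ := exists_commute_both (hKinv k hk) hl2 (even_of_not_isConj (hKinv k hk) hl2
      fun h => hlt ((Finset.mem_filter.1 hk).2.trans h))
    simp only [Finset.mem_biUnion, Finset.mem_product, Finset.mem_filter]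
    exact ⟨z, by simp [Z₂, hz], ⟨hk, mem_cent.2 hzk.symm⟩, hl, mem_cent.2 hzl.symm⟩
  have hterm : ∀ z ∈ Z₂, 16 * ((K.filter fun v => v ∈ cen(z)) ×ˢ (R.filter fun v => v ∈ cen(z))).card ≤
      9 * (b * b) := by
    intro z hz
    rw [Finset.card_product]
    have h1 := d.card_invol_cen_le (Finset.mem_filter.1 hz).2
    have h2 : (K.filter fun v => v ∈ cen(z)).card + (R.filter fun v => v ∈ cen(z)).card ≤
        (Finset.univ.filter fun v => orderOf v = 2 ∧ v ∈ cen(z)).card := by
      rw [← Finset.card_union_of_disjoint]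
      · refine Finset.card_le_card fun v hv => ?_
        simp only [Finset.mem_union, Finset.mem_filter] at hv ⊢
        rcases hv with ⟨hv, hvz⟩ | ⟨hv, hvz⟩
        · exact ⟨Finset.mem_univ _, hKinv v hv, hvz⟩
        · exact ⟨Finset.mem_univ _, ((Finset.mem_filter.1 hv).2).1, hvz⟩
      · refine Finset.disjoint_left.2 fun v hv hv' => ?_
        simp only [Finset.mem_filter, K, R] at hv hv'
        exact hv'.1.2.2 hv.1.2
    generalize (K.filter fun v => v ∈ cen(z)).card = x at h2
    generalize (R.filter fun v => v ∈ cen(z)).card = y at h2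
    have h3 : 2 * (x + y) ≤ 3 * b := by omega
    have h4 := Nat.mul_le_mul h3 h3
    zify at h4 ⊢
    nlinarith [sq_nonneg ((x : ℤ) - y)]
  have hsum := Finset.sum_le_card_nsmul _ _ _ hterm
  rw [smul_eq_mul, ← Finset.mul_sum] at hsum
  have hbig := (Finset.card_le_card hcover).trans Finset.card_biUnion_le
  rw [Finset.card_product, hK] at hbig
  have hZ : Z₂.card ≤ 2 * R.card := by
    refine le_trans (Finset.card_le_card (t := K ∪ R) fun v hv => ?_) ((Finset.card_union_le _ _).trans (by omega))
    simp only [Z₂, K, R, Finset.mem_union, Finset.mem_filter, Finset.mem_univ, true_and] at hv ⊢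
    exact (em _).imp id fun h => ⟨hv, h⟩
  have h1 : 16 * (q * a) * R.card ≤ 18 * (b * b) * R.card := by
    calc 16 * (q * a) * R.card = 16 * (q * a * R.card) := by ring
      _ ≤ Z₂.card * (9 * (b * b)) := le_trans (Nat.mul_le_mul_left _ hbig) hsum
      _ ≤ 2 * R.card * (9 * (b * b)) := Nat.mul_le_mul_right _ hZ
      _ = 18 * (b * b) * R.card := by ring
  have h2 : 16 * (q * a) ≤ 18 * (b * b) := Nat.le_of_mul_le_mul_right h1 (by
    have : 0 < q * a := Nat.mul_pos (by omega) (by omega)
    omega)
  obtain ⟨b', rfl⟩ : ∃ b', b = b' + 1 := ⟨b - 1, by omega⟩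
  have h3 : (2 * b' + 1) * b' ≤ q * a := Nat.mul_le_mul (by rcases d.near with c | c <;> omega)
    (by rcases d.near with c | c <;> omega)
  nlinarith

theorem cen_invol [IsSimpleGroup G] {v : G} (hv : orderOf v = 2) : Nat.card cen(v) = 2 * b := by
  obtain ⟨t, ht, htb⟩ := d.exists_big
  obtain ⟨g, rfl⟩ := isConj_iff.1 (d.isConj_invol ht hv)
  rw [card_cen_conj, htb]

theorem card_invol [IsSimpleGroup G] : (Finset.univ.filter fun v : G => orderOf v = 2).card = q * a := by
  obtain ⟨t, ht, htb⟩ := d.exists_big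
  have h1 := d.card_class (t := t)
  rw [htb, show 2 * a * b * q = 2 * b * (q * a) by ring] at h1
  rw [← Nat.eq_of_mul_eq_mul_left (show 0 < 2 * b by have := d.four; omega) h1]
  congr 1
  ext v
  simp only [Finset.mem_filter, Finset.mem_univ, true_and]
  exact ⟨fun h => d.isConj_invol ht h, fun h => (orderOf_eq_of_isConj h).trans ht⟩

end Data

end CfsgLib.Recog.ClassPSL
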