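import Cfsg.Agent.Lib.Recog.ClassPSL.Odd
import Cfsg.Agent.Lib.Geom.DicksonPSL
import Cfsg.Agent.S2508
import Mathlib.FieldTheory.Finite.GaloisField

/-!
The class sizes of `PSL(2,q)` for odd `q` in the parameters `a, b = (q ± 1) / 2`.
-/

set_option autoImplicit false
set_option linter.unusedSectionVars false

namespace CfsgLib.Recog.ClassPSL

open CfsgLib.StructC.ClassCoprime

universe u v

theorem exists_sizes {F : Type v} [Field F] [Fintype F] (hodd : ¬ 2 ∣ Fintype.card F) (h7 : 7 ≤ Fintype.card F)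
    {G : Type u} [Group G] [Finite G]
    (h : Set.range (fun g : G => (Subgroup.centralizer ({g} : Set G)).index) =
      Set.range (fun g : (Matrix.ProjectiveSpecialLinearGroup (Fin 2) F) =>
        (Subgroup.centralizer ({g} : Set (Matrix.ProjectiveSpecialLinearGroup (Fin 2) F))).index)) :
    ∃ a b, Sizes G (Fintype.card F) a b := by
  obtain ⟨h1, h3⟩ := Cfsg.Agent.S2508.result hodd h7
  have hpp : IsPrimePow (Fintype.card F) := FiniteField.isPrimePow_card F
  generalize Fintype.card F = q at hodd h7 h1 h3 hpp ⊢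
  obtain ⟨k, hk⟩ : ∃ k, q = 4 * k + 1 ∨ q = 4 * k + 3 := ⟨q / 4, by omega⟩
  rcases hk with rfl | rfl
  · refine ⟨2 * k + 1, 2 * k, ⟨⟨hpp, odd_two_mul_add_one k, even_two_mul k, by omega, by omega, by omega⟩, ?_⟩⟩
    refine h.trans ((h1 (by omega)).trans ?_)
    rw [show ((4 * k + 1) ^ 2 - 1) / 2 = 2 * (2 * k + 1) * (2 * k) by
        rw [show (4 * k + 1) ^ 2 = 2 * (2 * (2 * k + 1) * (2 * k)) + 1 by ring, Nat.add_sub_cancel,
          Nat.mul_div_cancel_left _ two_pos],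
      show (4 * k + 1) * (4 * k + 1 + 1) / 2 = (4 * k + 1) * (2 * k + 1) by
        rw [show (4 * k + 1) * (4 * k + 1 + 1) = 2 * ((4 * k + 1) * (2 * k + 1)) by ring,
          Nat.mul_div_cancel_left _ two_pos],
      Nat.add_sub_cancel, show (4 * k + 1) * (4 * k) = 2 * ((4 * k + 1) * (2 * k)) by ring,
      show (4 * k + 1) * (4 * k + 1 + 1) = 2 * ((4 * k + 1) * (2 * k + 1)) by ring]
  · refine ⟨2 * k + 1, 2 * k + 2, ⟨⟨hpp, odd_two_mul_add_one k, ⟨k + 1, by omega⟩, by omega, by omega, by omega⟩, ?_⟩⟩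
    refine h.trans ((h3 (by omega)).trans ?_)
    rw [show ((4 * k + 3) ^ 2 - 1) / 2 = 2 * (2 * k + 1) * (2 * k + 2) by
        rw [show (4 * k + 3) ^ 2 = 2 * (2 * (2 * k + 1) * (2 * k + 2)) + 1 by ring, Nat.add_sub_cancel,
          Nat.mul_div_cancel_left _ two_pos],
      show 4 * k + 3 - 1 = 2 * (2 * k + 1) by omega,
      show (4 * k + 3) * (2 * (2 * k + 1)) / 2 = (4 * k + 3) * (2 * k + 1) by
        rw [mul_left_comm, Nat.mul_div_cancel_left _ two_pos],
      show (4 * k + 3) * (4 * k + 3 + 1) = 2 * ((4 * k + 3) * (2 * k + 2)) by ring,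
      show (4 * k + 3) * (2 * (2 * k + 1)) = 2 * ((4 * k + 3) * (2 * k + 1)) by ring]

/-- Identify the field in `QuotIsPSL`. -/
theorem QuotIsPSL.equiv {F : Type v} [Field F] [Fintype F] {G : Type u} [Group G]
    (h : QuotIsPSL G (Fintype.card F)) :
    Nonempty (G ⧸ Subgroup.center G ≃* Matrix.ProjectiveSpecialLinearGroup (Fin 2) F) := by
  classical
  obtain ⟨-, K, _, _, hK, ⟨e⟩⟩ := h
  exact ⟨e.trans (CfsgLib.Geom.Moebius.pslCongr (FiniteField.ringEquivOfCardEq hK))⟩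

end CfsgLib.Recog.ClassPSL
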