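import Cfsg.Agent.Lib.Recog.ClassPSL.Cent
import Cfsg.Agent.Lib.Recog.ClassPSL.Defs
import Cfsg.Agent.Lib.StructC.UniqueInvol
import Cfsg.Agent.Lib.Invol.Dihedral
import Cfsg.Agent.Lib.InvChar.BSWDihedral

/-!
The central quotient is `PSL(2,q)`, for odd `q`, by the dihedral Sylow recognition theorem.
-/

set_option autoImplicit false
set_option linter.unusedSectionVars false
set_option linter.style.haveILetI false

namespace CfsgLib.Recog.ClassPSL

open CfsgLib.StructC.ClassCoprime CfsgLib.Invol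
open scoped _root_.Classical

universe u

variable {G : Type u} [Group G] [Fintype G] {q a b : ℕ}

local notation "cen(" x ")" => Subgroup.centralizer ({x} : Set G)

namespace Data

variable (d : Data G q a b) [IsSimpleGroup G]
include d

theorem exists_psl : ∃ (F : Type) (_ : Field F) (_ : Fintype F), Fintype.card F = q ∧
    Nonempty (G ≃* Matrix.ProjectiveSpecialLinearGroup (Fin 2) F) := by
  haveI : Fact (Nat.Prime 2) := ⟨Nat.prime_two⟩
  obtain ⟨t, ht, htb⟩ := d.exists_big
  obtain ⟨K, hKH, hK, htK, hab, huniq, hcen, hout⟩ := d.exists_torus ht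
  set H := cen(t)
  have hb := d.four
  obtain ⟨s, hs, hsK⟩ : ∃ s ∈ H, s ∉ K := by
    by_contra hcon
    push Not at hcon
    have := Subgroup.card_le_of_le (show H ≤ K from hcon)
    rw [hK, htb] at this
    omega
  obtain ⟨hs2, hsinv⟩ := hout s hs hsK
  obtain ⟨P⟩ : Nonempty (Sylow 2 K) := inferInstance
  set b₂ := 2 ^ b.factorization 2 with hb₂
  have hP : Nat.card (P : Subgroup K) = b₂ := by rw [P.card_eq_multiplicity, hK]
  have h2b₂ : 2 ≤ b₂ :=
    Nat.one_lt_pow (Nat.prime_two.factorization_pos_of_dvd (by omega) (even_iff_two_dvd.1 d.evenB)).ne' one_lt_two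
  have hPu : ∀ x y : (P : Subgroup K), orderOf x = 2 → orderOf y = 2 → Commute x y → y ∈ Subgroup.zpowers x := by
    intro x y hx hy _
    rw [← Subgroup.orderOf_coe, ← Subgroup.orderOf_coe] at hx hy
    have : y = x := Subtype.ext (Subtype.ext ((huniq _ (y : K).2 hy).trans (huniq _ (x : K).2 hx).symm))
    rw [this]
    exact Subgroup.mem_zpowers x
  haveI : IsMulCommutative (⊤ : Subgroup (P : Subgroup K)) :=
    ⟨⟨fun x y => Subtype.ext (Subtype.ext (Subtype.ext (hab _ x.1.1.2 _ y.1.1.2)))⟩⟩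
  haveI : IsCyclic (P : Subgroup K) := Subgroup.topEquiv.isCyclic.1
    (CfsgLib.StructC.isCyclic_of_comm_of_unique P.isPGroup' hPu ⊤ inferInstance)
  obtain ⟨g, hg⟩ := IsCyclic.exists_generator (α := (P : Subgroup K))
  set r : G := ((g : K) : G)
  have hrK : r ∈ K := (g : K).2
  have hr : orderOf r = b₂ := by
    rw [Subgroup.orderOf_coe, Subgroup.orderOf_coe, orderOf_eq_card_of_forall_mem_zpowers hg, hP]
  haveI : NeZero b₂ := ⟨by omega⟩
  have hsr : s * r * s⁻¹ = r⁻¹ := hsinv r hrK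
  have hsz : s ∉ Subgroup.zpowers r := fun h => hsK (Subgroup.zpowers_le.2 hrK h)
  obtain ⟨e⟩ := exists_mulEquiv_dihedral hr hs2 hsr hsz
  set D := Subgroup.closure ({r, s} : Set G)
  have hDcard : Nat.card D = 2 * b₂ := by rw [Nat.card_congr e.toEquiv, DihedralGroup.nat_card]
  have hfac : (Nat.card G).factorization 2 = 1 + b.factorization 2 := by
    rw [d.card, show 2 * a * b * q = (a * q) * (2 * b) by ring,
      Nat.factorization_mul (Nat.mul_pos d.toParams.a_pos d.toParams.q_pos).ne' (by omega),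
      Finsupp.add_apply, Nat.factorization_eq_zero_of_not_dvd (fun h =>
        Nat.not_even_iff_odd.2 (d.oddA.mul d.toParams.q_odd) (even_iff_two_dvd.2 h)),
      Nat.factorization_mul (by norm_num) (by omega), Finsupp.add_apply, Nat.Prime.factorization_self Nat.prime_two,
      zero_add]
  let S : Sylow 2 G := Sylow.ofCard D (by rw [hDcard, hfac, hb₂, pow_add, pow_one])
  have hSD : (S : Subgroup G) = D := rfl
  have hrD : r ∈ D := Subgroup.subset_closure (by simp)
  have hsD : s ∈ D := Subgroup.subset_closure (by simp)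
  have hDH : D ≤ H := (Subgroup.closure_le _).2 (by
    rintro x (rfl | rfl)
    exacts [hKH hrK, hs])
  have hthalf : r ^ (b₂ / 2) = t := by
    refine huniq _ (pow_mem hrK _) ?_
    obtain ⟨m, hm⟩ : 2 ∣ b₂ := hb₂ ▸ dvd_pow_self 2 (by
      intro e0; rw [hb₂, e0, pow_zero] at h2b₂; omega)
    rw [orderOf_pow_of_dvd (by omega) ⟨2, by rw [hr]; omega⟩, hr, hm, Nat.mul_div_cancel_left m two_pos,
      Nat.mul_div_cancel _ (by omega)]
  have htS : t ∈ (S : Subgroup G) := hthalf ▸ pow_mem hrD _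
  have htZ : ∀ x ∈ (S : Subgroup G), x * t = t * x := fun x hx => mem_cent.1 (hDH hx)
  set O := (Cfsg.oddCore H).map H.subtype
  have hOodd : Odd (Nat.card O) := by
    rw [Subgroup.card_map_of_injective (Subgroup.subtype_injective _)]
    exact Nat.coprime_two_right.1 (CfsgLib.Solvable.pPrimeCore_coprime 2)
  have hord : ∀ y ∈ O, Odd (orderOf y) := fun y hy =>
    hOodd.of_dvd_nat (Subgroup.orderOf_dvd_natCard _ hy)
  have hne2 : ∀ y ∈ O, orderOf y ≠ 2 := fun y hy e2 => by
    have := hord y hy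
    rw [e2] at this
    exact Nat.not_even_iff_odd.2 this even_two
  have hOK : ∀ y ∈ O, y ∈ K := fun y hy => by
    by_contra hn
    exact hne2 y hy (hout y (Subgroup.map_subtype_le _ hy) hn).1
  have hcomm : ∀ x ∈ K, x ∈ Subgroup.centralizer (O : Set G) := fun x hx =>
    Subgroup.mem_centralizer_iff.2 fun y hy => hab y (hOK y hy) x hx
  have hpow : ∀ x ∈ (S : Subgroup G), x ∈ K → x ∈ Subgroup.zpowers r := by
    intro x hx hxK
    have hle : Subgroup.zpowers r ≤ (S : Subgroup G) ⊓ K := Subgroup.zpowers_le.2 ⟨hrD, hrK⟩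
    have heq := Subgroup.eq_of_le_of_card_ge hle (by
      rw [Nat.card_zpowers, hr]
      have h1 : Nat.card ((S : Subgroup G) ⊓ K : Subgroup G) ∣ 2 * b₂ :=
        hDcard ▸ Subgroup.card_dvd_of_le inf_le_left
      have h2 : Nat.card ((S : Subgroup G) ⊓ K : Subgroup G) ∣ b :=
        hK ▸ Subgroup.card_dvd_of_le inf_le_right
      have h3 : Nat.card ((S : Subgroup G) ⊓ K : Subgroup G) ∣ 2 ^ (b.factorization 2 + 1) := by
        rw [pow_succ', ← hb₂]; exact h1
      obtain ⟨j, -, hj⟩ := (Nat.dvd_prime_pow Nat.prime_two).1 h3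
      rw [hj] at h2 ⊢
      exact Nat.pow_le_pow_right two_pos ((Nat.prime_two.pow_dvd_iff_le_factorization (by omega)).1 h2))
    rw [heq]
    exact ⟨hx, hxK⟩
  obtain ⟨F, iF, iFF, hodd, ⟨f⟩⟩ := CfsgLib.InvChar.BSW.psl_of_dihedral S b₂ h2b₂ ⟨e⟩ t ht htS htZ O rfl
    (fun hO => by
      have heq : (S : Subgroup G) ⊓ Subgroup.centralizer (O : Set G) = Subgroup.zpowers r := by
        refine le_antisymm (fun x hx => hpow x hx.1 ?_) (Subgroup.zpowers_le.2 ⟨hrD, hcomm r hrK⟩)
        by_contra hn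
        obtain ⟨y, hy, hy1⟩ := (Subgroup.bot_or_exists_ne_one O).resolve_left hO
        have h1 := (hout x (hDH hx.1) hn).2 y (hOK y hy)
        rw [← Subgroup.mem_centralizer_iff.1 hx.2 y hy, mul_inv_cancel_right] at h1
        exact hne2 y hy (invol_of_inv h1.symm hy1)
      rw [heq]
      refine ⟨inferInstance, ?_⟩
      have h1 := Subgroup.relIndex_mul_relIndex ⊥ (Subgroup.zpowers r) (S : Subgroup G) bot_le
        (heq ▸ inf_le_left)
      rw [Subgroup.relIndex_bot_left, Subgroup.relIndex_bot_left, Nat.card_zpowers, hr, hSD, hDcard, mul_comm] at h1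
      exact Nat.eq_of_mul_eq_mul_right (by omega) h1)
    (fun x hx hxO y hy => (hout x (hDH hx) fun hxK => hxO (hcomm x hxK)).2 y (hOK y hy))
    (fun Y hYO hY g hgY => by
      obtain ⟨y, hy, hy1⟩ := (Subgroup.bot_or_exists_ne_one Y).resolve_left hY
      have hcy : ∀ z ∈ O, z ≠ 1 → cen(z) = K := fun z hz hz1 =>
        hcen z (hOK z hz) hz1 fun e' => hne2 z hz (e' ▸ ht)
      have hgK : g ∈ Subgroup.normalizer (K : Set G) := mem_normalizer_of_cen (hcy y (hYO hy) hy1)
        (hcy _ (hYO ((Subgroup.mem_normalizer_iff.1 hgY y).1 hy)) (conj_ne_one hy1))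
      have h1 := huniq _ ((Subgroup.mem_normalizer_iff.1 hgK t).1 htK) (by rw [orderOf_conj_eq]; exact ht)
      refine mem_cent.2 ?_
      calc g * t = g * t * g⁻¹ * g := by group
        _ = t * g := by rw [h1])
  refine ⟨F, iF, iFF, ?_, ⟨f⟩⟩
  have h1 := CfsgLib.Classical.card_psl_two_mul (F := F)
  have hF := Fintype.one_lt_card (α := F)
  set p := Fintype.card F
  obtain ⟨c, hc⟩ := hodd
  rw [← Nat.card_congr f.toEquiv, d.card,
    show Nat.gcd 2 (p - 1) = 2 from Nat.gcd_eq_left ⟨c, by omega⟩] at h1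
  have hqq := d.toParams.sq_eq
  have hq := d.toParams.q_ge
  have h2 : q * (q ^ 2 - 1) = p * (p ^ 2 - 1) := by
    rw [← h1, show q ^ 2 - 1 = 4 * a * b by rw [pow_two, hqq, Nat.add_sub_cancel]]
    ring
  rcases lt_trichotomy p q with hlt | heq | hgt
  · have h3 : p * (p ^ 2 - 1) < q * (q ^ 2 - 1) := Nat.mul_lt_mul_of_lt_of_le hlt
      (Nat.sub_le_sub_right (Nat.pow_le_pow_left hlt.le 2) 1) (by
        have := Nat.pow_le_pow_left (show 7 ≤ q from hq) 2
        omega)
    omega
  · exact heq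
  · have h3 : q * (q ^ 2 - 1) < p * (p ^ 2 - 1) := Nat.mul_lt_mul_of_lt_of_le hgt
      (Nat.sub_le_sub_right (Nat.pow_le_pow_left hgt.le 2) 1) (by
        have := Nat.pow_le_pow_left (show 7 ≤ p by omega) 2
        omega)
    omega

end Data

/-- The odd case: the central quotient is `PSL(2,q)` and commuting pairs lift. -/
theorem oddCase {G : Type u} [Group G] [Finite G] {q a b : ℕ} (h : Sizes G q a b) : QuotIsPSL G q := by
  haveI := Fintype.ofFinite (G ⧸ Subgroup.center G)
  have d := h.data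
  haveI := d.isSimpleGroup
  exact ⟨h.lift (fun g hg hg2 => d.invol_of_card_two_b hg hg2) (fun u v hu hv => d.isConj_invol hu hv),
    d.exists_psl⟩

end CfsgLib.Recog.ClassPSL
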