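import Cfsg.Agent.Lib.Recog.ClassPSL.Basic

/-!
The class sizes of `PSL(2,q)`, `q` odd, determine the index of the centre and the centraliser orders of
the central quotient.
-/

set_option autoImplicit false
set_option linter.unusedSectionVars false
set_option linter.style.haveILetI false

namespace CfsgLib.Recog.ClassPSL

open CfsgLib.StructC.ClassCoprime
open scoped Classical

universe u

/-- An odd prime power `q = a + b` with `a` odd, `b` even, `|a - b| = 1`. -/
structure Params (q a b : ℕ) : Prop where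
  pp : IsPrimePow q
  oddA : Odd a
  evenB : Even b
  sum : q = a + b
  near : a = b + 1 ∨ b = a + 1
  four : 4 ≤ b

namespace Params

variable {q a b : ℕ} (h : Params q a b)
include h

theorem a_ge : 3 ≤ a := by
  obtain ⟨k, hk⟩ := h.oddA
  rcases h.near with e | e <;> have := h.four <;> omega

theorem q_ge : 7 ≤ q := by have := h.a_ge; have := h.four; have := h.sum; omega

theorem q_odd : Odd q := by rw [h.sum]; exact h.oddA.add_even h.evenB

theorem cop_ab : a.Coprime b := by
  rcases h.near with e | e <;> rw [e] <;> simp [Nat.Coprime]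

theorem cop_qa : q.Coprime a := by rw [h.sum, Nat.coprime_self_add_left]; exact h.cop_ab.symm

theorem cop_qb : q.Coprime b := by rw [h.sum, Nat.coprime_add_self_left]; exact h.cop_ab

theorem cop_q2 : q.Coprime 2 := Nat.coprime_two_right.2 h.q_odd

theorem cop_a2 : a.Coprime 2 := Nat.coprime_two_right.2 h.oddA

theorem cop_q_2ab : q.Coprime (2 * a * b) := (h.cop_q2.mul_right h.cop_qa).mul_right h.cop_qb

theorem cop_a_2qb : a.Coprime (2 * (q * b)) := h.cop_a2.mul_right (h.cop_qa.symm.mul_right h.cop_ab)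

theorem cop_qa_2b : (q * a).Coprime (2 * b) :=
  (h.cop_q2.mul_right h.cop_qb).mul_left (h.cop_a2.mul_right h.cop_ab)

theorem sq_eq : q * q = 4 * a * b + 1 := by
  rw [h.sum]; rcases h.near with e | e <;> subst e <;> ring

theorem q_pos : 0 < q := by have := h.q_ge; omega
theorem a_pos : 0 < a := by have := h.a_ge; omega
theorem b_pos : 0 < b := by have := h.four; omega

end Params

theorem not_dvd_of_coprime {k l : ℕ} (h : k.Coprime l) (hk : k ≠ 1) : ¬ k ∣ l := fun hd =>
  hk (Nat.eq_one_of_dvd_coprimes h dvd_rfl hd)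

variable {G : Type u} [Group G] [Finite G] {q a b : ℕ}

local notation "Z" => Subgroup.center G

/-- The class sizes are those of `PSL(2,q)`. -/
structure Sizes (G : Type u) [Group G] (q a b : ℕ) : Prop extends Params q a b where
  range : Set.range (cs : G → ℕ) = {1, 2 * a * b, q * a, 2 * (q * b), 2 * (q * a)}

namespace Sizes

variable (h : Sizes G q a b)
include h

theorem cs_cases {x : G} (hx : x ∉ Z) :
    cs x = 2 * a * b ∨ cs x = q * a ∨ cs x = 2 * (q * b) ∨ cs x = 2 * (q * a) := by
  have h1 : cs x ∈ Set.range (cs : G → ℕ) := ⟨x, rfl⟩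
  rw [h.range] at h1
  simp only [Set.mem_insert_iff, Set.mem_singleton_iff] at h1
  exact h1.resolve_left fun e => hx (cs_eq_one_iff.1 e)

theorem exists_cs {d : ℕ} (hd : d = 2 * a * b ∨ d = q * a ∨ d = 2 * (q * b)) :
    ∃ x : G, x ∉ Z ∧ cs x = d := by
  have h1 : d ∈ Set.range (cs : G → ℕ) := by
    rw [h.range]
    simp only [Set.mem_insert_iff, Set.mem_singleton_iff]
    rcases hd with e | e | e <;> simp [e]
  obtain ⟨x, hx⟩ := h1
  refine ⟨x, fun hZ => ?_, hx⟩
  have h2 := cs_eq_one_iff.2 hZ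
  have := h.toParams.q_ge; have := h.toParams.a_ge; have := h.toParams.four
  rcases hd with e | e | e <;> rw [hx, e] at h2 <;> nlinarith

theorem isolated_U : Isolated G (2 * a * b) := by
  have hq := h.toParams.q_ge; have ha := h.toParams.a_ge; have hb := h.toParams.four
  intro x hx hd
  rcases h.cs_cases hx with e | e | e | e
  · exact e
  all_goals rw [e] at hd; exfalso; rcases hd with hd | hd
  · have h2 : Even (q * a) := even_iff_two_dvd.2 (dvd_trans ⟨a * b, by ring⟩ hd)
    exact Nat.not_even_iff_odd.2 (h.toParams.q_odd.mul h.oddA) h2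
  · exact not_dvd_of_coprime h.toParams.cop_q_2ab (by omega) (dvd_trans (dvd_mul_right q a) hd)
  · exact not_dvd_of_coprime h.toParams.cop_a_2qb (by omega) (dvd_trans ⟨2 * b, by ring⟩ hd)
  · exact not_dvd_of_coprime h.toParams.cop_q_2ab (by omega) (dvd_trans ⟨2 * b, by ring⟩ hd)
  · have h2 : b ∣ q * a := Nat.dvd_of_mul_dvd_mul_left two_pos (dvd_trans ⟨a, by ring⟩ hd)
    exact not_dvd_of_coprime (h.toParams.cop_qb.symm.mul_right h.toParams.cop_ab.symm) (by omega) h2
  · exact not_dvd_of_coprime h.toParams.cop_q_2ab (by omega) (dvd_trans ⟨2 * a, by ring⟩ hd)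

theorem isolated_T : Isolated G (2 * (q * b)) := by
  have hq := h.toParams.q_ge; have ha := h.toParams.a_ge; have hb := h.toParams.four
  intro x hx hd
  rcases h.cs_cases hx with e | e | e | e
  · exfalso; rw [e] at hd; rcases hd with hd | hd
    · exact not_dvd_of_coprime h.toParams.cop_q_2ab (by omega) (dvd_trans ⟨2 * b, by ring⟩ hd)
    · exact not_dvd_of_coprime h.toParams.cop_a_2qb (by omega) (dvd_trans ⟨2 * b, by ring⟩ hd)
  · exfalso; rw [e] at hd; rcases hd with hd | hd
    · have h2 : Even (q * a) := even_iff_two_dvd.2 (dvd_trans ⟨q * b, by ring⟩ hd)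
      exact Nat.not_even_iff_odd.2 (h.toParams.q_odd.mul h.oddA) h2
    · exact not_dvd_of_coprime h.toParams.cop_a_2qb (by omega) (dvd_trans (dvd_mul_left a q) hd)
  · exact e
  · exfalso; rw [e] at hd; rcases hd with hd | hd
    · have h2 : b ∣ a := Nat.dvd_of_mul_dvd_mul_left (by omega : 0 < 2 * q) (by rwa [mul_assoc, mul_assoc])
      exact not_dvd_of_coprime h.toParams.cop_ab.symm (by omega) h2
    · exact not_dvd_of_coprime h.toParams.cop_a_2qb (by omega) (dvd_trans ⟨2 * q, by ring⟩ hd)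

theorem index_eq : (Subgroup.center G).index = 2 * a * b * q := by
  have hq := h.toParams.q_ge; have ha := h.toParams.a_ge; have hb := h.toParams.four
  obtain ⟨x, hx, hxd⟩ := h.exists_cs (Or.inl rfl)
  obtain ⟨y, hy, hyd⟩ := h.exists_cs (d := q * a) (Or.inr (Or.inl rfl))
  obtain ⟨w, hw, hwd⟩ := h.exists_cs (d := 2 * (q * b)) (Or.inr (Or.inr rfl))
  have hm0 : (Subgroup.center G).index ≠ 0 := Subgroup.index_ne_zero_of_finite
  have hU : 2 * a * b ∣ (Subgroup.center G).index := ⟨nc x, by rw [← nc_mul_cs x, hxd, mul_comm]⟩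
  have hqm : q ∣ (Subgroup.center G).index := ⟨nc y * a, by rw [← nc_mul_cs y, hyd]; ring⟩
  have hL : 2 * a * b * q ∣ (Subgroup.center G).index := h.toParams.cop_q_2ab.symm.mul_dvd_of_dvd_of_dvd hU hqm
  refine Nat.dvd_antisymm ((Nat.factorization_le_iff_dvd hm0 (ne_of_gt (Nat.mul_pos (Nat.mul_pos
    (Nat.mul_pos two_pos (by omega)) (by omega)) (by omega)))).1 fun r => ?_) hL
  by_cases hr : r.Prime
  swap
  · simp [Nat.factorization_eq_zero_of_not_prime _ hr]
  have key : ∀ v : G, ¬ r ∣ nc v → cs v ∣ 2 * a * b * q →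
      (Subgroup.center G).index.factorization r ≤ (2 * a * b * q).factorization r := by
    intro v hv hdv
    rw [← nc_mul_cs v, Nat.factorization_mul (fun e => hm0 (by rw [← nc_mul_cs v, e, zero_mul]))
      Subgroup.index_ne_zero_of_finite, Finsupp.add_apply, Nat.factorization_eq_zero_of_not_dvd hv, zero_add]
    exact (Nat.factorization_le_iff_dvd Subgroup.index_ne_zero_of_finite (by positivity)).2 hdv r
  by_cases hrq : r ∣ q
  · obtain ⟨l, hl, hla⟩ := Nat.exists_prime_and_dvd (show a ≠ 1 by omega)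
    refine key w ?_ (hwd ▸ ⟨a, by ring⟩)
    refine h.isolated_T.not_dvd_nc hw hwd hr hl ?_ ?_ hx ?_ ?_
    · rintro rfl
      exact hl.ne_one (Nat.eq_one_of_dvd_coprimes h.toParams.cop_qa hrq hla)
    · refine hla.trans ((h.toParams.cop_a_2qb.dvd_of_dvd_mul_right) ?_)
      rw [← hwd, nc_mul_cs]
      exact dvd_trans ⟨2 * b * q, by ring⟩ hL
    · rw [hxd]
      intro e
      exact not_dvd_of_coprime h.toParams.cop_q_2ab (by omega) ⟨2 * b, by rw [e]; ring⟩
    · rw [hxd]
      exact fun hd => hr.ne_one (Nat.eq_one_of_dvd_coprimes h.toParams.cop_q_2ab hrq hd)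
  · obtain ⟨l, hl, hlq⟩ := Nat.exists_prime_and_dvd (show q ≠ 1 by omega)
    refine key x ?_ (hxd ▸ dvd_mul_right _ _)
    have hln : l ∣ nc x := hlq.trans (h.toParams.cop_q_2ab.dvd_of_dvd_mul_right (by
      rw [← hxd, nc_mul_cs]; exact hqm))
    by_cases hra : r ∣ a
    · refine h.isolated_U.not_dvd_nc hx hxd hr hl (fun e => hrq (e ▸ hlq)) hln hw ?_ ?_
      · rw [hwd]
        intro e
        exact not_dvd_of_coprime h.toParams.cop_q_2ab (by omega) ⟨2 * b, by rw [← e]; ring⟩
      · rw [hwd]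
        exact fun hd => hr.ne_one (Nat.eq_one_of_dvd_coprimes h.toParams.cop_a_2qb hra hd)
    · refine h.isolated_U.not_dvd_nc hx hxd hr hl (fun e => hrq (e ▸ hlq)) hln hy ?_ ?_
      · rw [hyd]
        intro e
        exact not_dvd_of_coprime h.toParams.cop_q_2ab (by omega) ⟨a, by rw [← e]⟩
      · rw [hyd]
        exact fun hd => (hr.dvd_mul.1 hd).elim hrq hra

end Sizes

/-- The central quotient. -/
structure Data (G : Type u) [Group G] (q a b : ℕ) : Prop extends Params q a b where
  card : Nat.card G = 2 * a * b * q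
  cases' : ∀ g : G, g ≠ 1 →
    Nat.card (Subgroup.centralizer ({g} : Set G)) = q ∨ Nat.card (Subgroup.centralizer ({g} : Set G)) = a ∨
      Nat.card (Subgroup.centralizer ({g} : Set G)) = b ∨ Nat.card (Subgroup.centralizer ({g} : Set G)) = 2 * b
  exQ : ∃ g : G, g ≠ 1 ∧ Nat.card (Subgroup.centralizer ({g} : Set G)) = q
  exA : ∃ g : G, g ≠ 1 ∧ Nat.card (Subgroup.centralizer ({g} : Set G)) = a

namespace Sizes

variable (h : Sizes G q a b)
include h

local notation "Q" => G ⧸ Subgroup.center G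

theorem card_cen_mul (x : G) :
    Nat.card (Subgroup.centralizer ({(x : Q)} : Set Q)) * cs (x : Q) = 2 * a * b * q := by
  rw [← h.index_eq, Subgroup.index_eq_card (Subgroup.center G)]
  exact Subgroup.card_mul_index _

/-- The class of `x` in the quotient: only the size `2qa` may be halved. -/
theorem quot_cs {x : G} (hx : x ∉ Z) :
    (cs (x : Q) = cs x ∧ ∀ w : G, Commute (w : Q) (x : Q) → w * x = x * w) ∨
      (cs x = 2 * (q * a) ∧ cs (x : Q) = q * a) := by
  obtain ⟨j, hj, hjl, hj1⟩ := cs_quotient x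
  have hord : orderOf (x : Q) ∣ nc x := orderOf_dvd_of_pow_eq_one (by
    rw [← QuotientGroup.mk_pow]
    exact (QuotientGroup.eq_one_iff _).2 (pow_nc_mem (mem_cent.2 rfl)))
  have hn : nc x * cs x = 2 * a * b * q := by rw [nc_mul_cs, h.index_eq]
  have hcop : ∀ {n : ℕ}, nc x = n → (cs x).Coprime n → j = 1 := fun {n} e hc => by
    by_contra hne
    obtain ⟨l, hl, hlj⟩ := Nat.exists_prime_and_dvd hne
    exact hl.ne_one (Nat.eq_one_of_dvd_coprimes hc (hlj.trans ⟨_, by rw [← hj, mul_comm]⟩)
      ((hjl l hl hlj).trans (e ▸ hord)))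
  have done : j = 1 → ((cs (x : Q) = cs x ∧ ∀ w : G, Commute (w : Q) (x : Q) → w * x = x * w) ∨
      (cs x = 2 * (q * a) ∧ cs (x : Q) = q * a)) := fun e => Or.inl ⟨by rw [← hj, e, mul_one], hj1 e⟩
  have := h.toParams.q_pos; have := h.toParams.a_pos; have := h.toParams.b_pos
  rcases h.cs_cases hx with e | e | e | e <;> rw [e] at hn
  · refine done (hcop (n := q) (Nat.eq_of_mul_eq_mul_right (show 0 < 2 * a * b by positivity) (by rw [hn]; ring)) ?_)
    rw [e]; exact h.toParams.cop_q_2ab.symm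
  · refine done (hcop (n := 2 * b) (Nat.eq_of_mul_eq_mul_right (show 0 < q * a by positivity) (by rw [hn]; ring)) ?_)
    rw [e]; exact h.toParams.cop_qa_2b
  · refine done (hcop (n := a) (Nat.eq_of_mul_eq_mul_right (show 0 < 2 * (q * b) by positivity) (by rw [hn]; ring)) ?_)
    rw [e]; exact h.toParams.cop_a_2qb.symm
  · have hnb : nc x = b := Nat.eq_of_mul_eq_mul_right (show 0 < 2 * (q * a) by positivity) (by rw [hn]; ring)
    have hjqa : j.Coprime (q * a) := by
      by_contra hne
      obtain ⟨l, hl, hlj, hlqa⟩ := Nat.Prime.not_coprime_iff_dvd.1 hne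
      exact hl.ne_one (Nat.eq_one_of_dvd_coprimes h.toParams.cop_qa_2b hlqa
        (((hjl l hl hlj).trans (hnb ▸ hord)).trans (dvd_mul_left b 2)))
    have hj2 : j ∣ 2 := hjqa.dvd_of_dvd_mul_right ⟨cs (x : Q), by rw [← e, ← hj, mul_comm]⟩
    rcases (Nat.dvd_prime Nat.prime_two).1 hj2 with e' | e'
    · exact done e'
    · refine Or.inr ⟨e, ?_⟩
      rw [e, e'] at hj
      omega

theorem data : Data Q q a b := by
  have := h.toParams.q_pos; have := h.toParams.a_pos; have := h.toParams.b_pos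
  have key : ∀ {x : G}, x ∉ Z → cs x = 2 * a * b ∨ cs x = 2 * (q * b) → cs (x : Q) = cs x := fun {x} hx he => by
    rcases h.quot_cs hx with ⟨e, -⟩ | ⟨e, -⟩
    · exact e
    exfalso
    have := h.toParams.cop_ab
    rcases he with he | he <;> rw [e] at he
    · exact not_dvd_of_coprime h.toParams.cop_q_2ab (by have := h.toParams.q_ge; omega)
        ⟨2 * a, by rw [← he]; ring⟩
    · exact not_dvd_of_coprime h.toParams.cop_a_2qb (by have := h.toParams.a_ge; omega)
        ⟨2 * q, by rw [← he]; ring⟩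
  refine { toParams := h.toParams, card := ?_, cases' := fun g hg => ?_, exQ := ?_, exA := ?_ }
  · rw [← Subgroup.index_eq_card, h.index_eq]
  · obtain ⟨x, rfl⟩ := QuotientGroup.mk_surjective g
    have hx : x ∉ Z := fun e => hg ((QuotientGroup.eq_one_iff _).2 e)
    have hm := h.card_cen_mul x
    rcases h.quot_cs hx with ⟨e, -⟩ | ⟨-, e⟩
    · rw [e] at hm
      rcases h.cs_cases hx with c | c | c | c <;> rw [c] at hm
      · exact Or.inl (Nat.eq_of_mul_eq_mul_right (show 0 < 2 * a * b by positivity) (by rw [hm]; ring))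
      · exact Or.inr (Or.inr (Or.inr (Nat.eq_of_mul_eq_mul_right (show 0 < q * a by positivity) (by rw [hm]; ring))))
      · exact Or.inr (Or.inl (Nat.eq_of_mul_eq_mul_right (show 0 < 2 * (q * b) by positivity) (by rw [hm]; ring)))
      · exact Or.inr (Or.inr (Or.inl (Nat.eq_of_mul_eq_mul_right (show 0 < 2 * (q * a) by positivity) (by rw [hm]; ring))))
    · rw [e] at hm
      exact Or.inr (Or.inr (Or.inr (Nat.eq_of_mul_eq_mul_right (show 0 < q * a by positivity) (by rw [hm]; ring))))
  · obtain ⟨x, hx, hxd⟩ := h.exists_cs (Or.inl rfl)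
    refine ⟨(x : Q), fun e => hx ((QuotientGroup.eq_one_iff _).1 e), ?_⟩
    have hm := h.card_cen_mul x
    rw [key hx (Or.inl hxd), hxd] at hm
    exact Nat.eq_of_mul_eq_mul_right (show 0 < 2 * a * b by positivity) (by rw [hm]; ring)
  · obtain ⟨x, hx, hxd⟩ := h.exists_cs (d := 2 * (q * b)) (Or.inr (Or.inr rfl))
    refine ⟨(x : Q), fun e => hx ((QuotientGroup.eq_one_iff _).1 e), ?_⟩
    have hm := h.card_cen_mul x
    rw [key hx (Or.inr hxd), hxd] at hm
    exact Nat.eq_of_mul_eq_mul_right (show 0 < 2 * (q * b) by positivity) (by rw [hm]; ring)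

/-- Commuting pairs lift, once the involutions of the quotient form the class of centraliser order `2b`. -/
theorem lift (hinv : ∀ g : Q, g ≠ 1 → Nat.card (Subgroup.centralizer ({g} : Set Q)) = 2 * b → orderOf g = 2)
    (hconj : ∀ u v : Q, orderOf u = 2 → orderOf v = 2 → IsConj u v) (x w : G)
    (hc : Commute (w : Q) (x : Q)) : w * x = x * w := by
  have := h.toParams.q_pos; have := h.toParams.a_pos; have := h.toParams.b_pos
  by_cases hx : x ∈ Z
  · exact Subgroup.mem_center_iff.1 hx w
  rcases h.quot_cs hx with ⟨-, e⟩ | ⟨he, hq'⟩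
  · exact e w hc
  exfalso
  have hne : (x : Q) ≠ 1 := fun e => hx ((QuotientGroup.eq_one_iff _).1 e)
  have hm := h.card_cen_mul x
  rw [hq'] at hm
  have hx2 := hinv _ hne (Nat.eq_of_mul_eq_mul_right (show 0 < q * a by positivity) (by rw [hm]; ring))
  obtain ⟨y, hy, hyd⟩ := h.exists_cs (d := q * a) (Or.inr (Or.inl rfl))
  have hyne : (y : Q) ≠ 1 := fun e => hy ((QuotientGroup.eq_one_iff _).1 e)
  have hmy := h.card_cen_mul y
  have hyq : cs (y : Q) = q * a := by
    rcases h.quot_cs hy with ⟨e, -⟩ | ⟨e, -⟩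
    · rw [e, hyd]
    · have : 0 < q * a := by positivity
      omega
  rw [hyq] at hmy
  have hy2 := hinv _ hyne (Nat.eq_of_mul_eq_mul_right (show 0 < q * a by positivity) (by rw [hmy]; ring))
  obtain ⟨c, hc'⟩ := isConj_iff.1 (hconj _ _ hy2 hx2)
  obtain ⟨k, rfl⟩ := QuotientGroup.mk_surjective c
  rw [← QuotientGroup.mk_inv, ← QuotientGroup.mk_mul, ← QuotientGroup.mk_mul, QuotientGroup.eq] at hc'
  have hcs : cs x = cs (k * y * k⁻¹) := by
    show (Subgroup.centralizer ({x} : Set G)).index = (Subgroup.centralizer ({k * y * k⁻¹} : Set G)).index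
    congr 1
    ext v
    rw [mem_cent, mem_cent]
    obtain ⟨z, hz, hxz⟩ : ∃ z ∈ Subgroup.center G, x = k * y * k⁻¹ * z :=
      ⟨_, hc', (mul_inv_cancel_left _ _).symm⟩
    rw [hxz]
    have hzv := Subgroup.mem_center_iff.1 hz
    generalize k * y * k⁻¹ = u
    constructor
    · intro e
      rw [← mul_assoc, mul_assoc u z v, ← hzv v, ← mul_assoc u v z] at e
      exact mul_right_cancel e
    · intro e
      rw [← mul_assoc, e, mul_assoc, hzv v, ← mul_assoc]
  have hcy : cs (k * y * k⁻¹) = cs y := by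
    rw [← ncard_cl, ← ncard_cl]
    congr 1
    ext v
    constructor
    · rintro ⟨c, rfl⟩; exact ⟨c * k, by group⟩
    · rintro ⟨c, rfl⟩; exact ⟨c * k⁻¹, by group⟩
  rw [he, hcy, hyd] at hcs
  have : 0 < q * a := by positivity
  omega

end Sizes

end CfsgLib.Recog.ClassPSL
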