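import Cfsg.Agent.Lib.Recog.ClassPSL.Torus

/-!
The central quotient is simple, by the class equation.
-/

set_option autoImplicit false
set_option linter.unusedSectionVars false
set_option linter.style.haveILetI false

namespace CfsgLib.Recog.ClassPSL

open CfsgLib.StructC.ClassCoprime
open scoped Classical

universe u

variable {G : Type u} [Group G] [Finite G] {q a b : ℕ}

local notation "cen(" x ")" => Subgroup.centralizer ({x} : Set G)

theorem mem_of_coprime_index {M : Subgroup G} [M.Normal] {g : G} (h : (orderOf g).Coprime M.index) : g ∈ M :=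
  Subgroup.zpowers_le.2 (M.pow_index_mem g) (mem_zpowers_pow h)

namespace Data

variable (d : Data G q a b)
include d

/-- The order of a normal subgroup meeting no torus of order `a` is impossible. -/
theorem not_normal_coprime_a {M : Subgroup G} [M.Normal] (hM : M ≠ ⊥)
    (hno : ∀ y ∈ M, y ≠ 1 → Nat.card cen(y) ≠ a) : False := by
  have hq := d.toParams.q_ge; have ha := d.toParams.a_ge; have hb := d.four; have hs := d.sum
  have hqq := d.toParams.sq_eq
  obtain ⟨u, f, e, hsum, hu, hf, he⟩ := d.counts (fun g => g ∈ M)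
    (fun g h hg => (inferInstance : M.Normal).conj_mem g hg h) (one_mem M)
  have hf0 : f = 0 := by
    by_contra hne
    have hpos : 0 < Nat.card {g : G // (g ∈ M ∧ g ≠ 1) ∧ Nat.card cen(g) = a} := by
      rw [hf]
      exact Nat.mul_pos (Nat.mul_pos (by omega) d.toParams.q_pos) (Nat.pos_of_ne_zero hne)
    obtain ⟨⟨g, ⟨hg, hg1⟩, hga⟩⟩ := (Nat.card_pos_iff.1 hpos).1
    exact hno g hg hg1 hga
  subst hf0
  rw [show Nat.card {g : G // g ∈ M} = Nat.card M from rfl, mul_zero, add_zero] at hsum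
  have hMdvd : Nat.card M ∣ 2 * a * b * q := d.card ▸ M.card_subgroup_dvd_card
  have hcop : (Nat.card M).Coprime a := by
    by_contra hne
    obtain ⟨r, hr, hrM, hra⟩ := Nat.Prime.not_coprime_iff_dvd.1 hne
    haveI := Fact.mk hr
    obtain ⟨⟨g, hg⟩, hgr⟩ := exists_prime_orderOf_dvd_card' (G := M) r hrM
    rw [Subgroup.orderOf_mk] at hgr
    have hg1 : g ≠ 1 := fun e => hr.ne_one (by rw [← hgr, e, orderOf_one])
    exact hno g hg hg1 (d.cen_of_dvd_a hg1 (hgr ▸ hra))
  obtain ⟨k, hk⟩ : Nat.card M ∣ 2 * b * q := hcop.dvd_of_dvd_mul_left (by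
    rwa [show a * (2 * b * q) = 2 * a * b * q by ring])
  rcases Nat.eq_zero_or_pos u with rfl | hu1
  · rw [mul_zero, add_zero] at hsum
    rcases Nat.eq_zero_or_pos e with rfl | he1
    · exact hM (Subgroup.card_eq_one.1 (by rw [hsum, mul_zero, add_zero]))
    have hcq : (Nat.card M).Coprime q := by
      rw [hsum, show 1 + q * a * e = 1 + q * (a * e) by ring]
      exact (Nat.coprime_add_mul_left_left 1 q (a * e)).2 (Nat.coprime_one_left q)
    have h1 : Nat.card M ∣ 2 * b := hcq.dvd_of_dvd_mul_right (Dvd.intro k hk.symm)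
    have h2 := Nat.le_of_dvd (by omega) h1
    have h3 : q * 3 ≤ q * a * e := by
      rw [mul_assoc]; exact Nat.mul_le_mul_left q ((by omega : 3 ≤ a).trans (Nat.le_mul_of_pos_right a he1))
    rcases d.near with c | c <;> omega
  · have hlow : 1 + 2 * a * b ≤ Nat.card M := by
      have : 2 * a * b * 1 ≤ 2 * a * b * u := Nat.mul_le_mul_left _ hu1
      omega
    have hk2 : k ≤ 2 := by
      by_contra hlt
      have h1 : Nat.card M * 3 ≤ Nat.card M * k := Nat.mul_le_mul_left _ (by omega)
      have h2 : 2 * (b * b) ≤ 2 * (b * (a + 1)) := Nat.mul_le_mul_left _ (Nat.mul_le_mul_left _ (by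
        rcases d.near with c | c <;> omega))
      have h4 : 2 * 4 ≤ a * b * 2 := by nlinarith
      rw [← hk, hs] at h1
      nlinarith
    have hk0 : 1 ≤ k := by
      rcases Nat.eq_zero_or_pos k with rfl | h
      · rw [mul_zero] at hk
        have := Nat.mul_pos (Nat.mul_pos (show 0 < 2 by norm_num) d.toParams.b_pos) d.toParams.q_pos
        omega
      · exact h
    have hidx : M.index = a * k := by
      have h1 := M.card_mul_index
      rw [d.card] at h1
      refine Nat.eq_of_mul_eq_mul_left (Nat.card_pos (α := M)) (h1.trans ?_)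
      rw [show Nat.card M * (a * k) = a * (Nat.card M * k) by ring, ← hk]
      ring
    have hall : ∀ g : G, g ≠ 1 → Nat.card cen(g) = q → g ∈ M := fun g _ hgq => mem_of_coprime_index (by
      rw [hidx]
      refine Nat.Coprime.coprime_dvd_left (hgq ▸ orderOf_dvd_cen g) (d.toParams.cop_qa.mul_right ?_)
      rcases (show k = 1 ∨ k = 2 by omega) with rfl | rfl
      · exact Nat.coprime_one_right q
      · exact d.toParams.cop_q2)
    have hu2 : 2 * a * b * u = 4 * a * b := by
      rw [← hu, ← d.counts_univ.1]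
      exact Nat.card_congr (Equiv.subtypeEquivRight fun g => ⟨fun h => ⟨h.1.2, h.2⟩,
        fun h => ⟨⟨hall g h.1 h.2, h.1⟩, h.2⟩⟩)
    rw [hu2] at hsum
    rcases (show k = 1 ∨ k = 2 by omega) with rfl | rfl
    · rw [mul_one] at hk
      rcases d.near with c | c
      · have : 2 * b * q < q * q := Nat.mul_lt_mul_of_pos_right (by omega) (by omega)
        nlinarith
      · have h4 : q * (q + 1) = q * q + q * (a * e) := by
          rw [show q + 1 = 2 * b by omega, show q * (2 * b) = 2 * b * q by ring, hk, hsum, hqq]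
          ring
        have h5 : a * e = 1 := by
          have : q * (a * e) = q * 1 := by nlinarith
          exact Nat.eq_of_mul_eq_mul_left (by omega) this
        have := Nat.eq_one_of_mul_eq_one_right h5
        omega
    · have : b * q < q * q := Nat.mul_lt_mul_of_pos_right (by omega) (by omega)
      nlinarith

/-- The central quotient is simple. -/
theorem isSimpleGroup : IsSimpleGroup G := by
  have hq := d.toParams.q_ge; have ha := d.toParams.a_ge; have hb := d.four; have hs := d.sum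
  have hqq := d.toParams.sq_eq
  haveI : Nontrivial G := by
    obtain ⟨g, hg, -⟩ := d.exQ
    exact ⟨⟨g, 1, hg⟩⟩
  refine ⟨fun M hMn => ?_⟩
  by_contra hne
  push Not at hne
  obtain ⟨hMbot, hMtop⟩ := hne
  haveI := hMn
  by_cases hno : ∀ y ∈ M, y ≠ 1 → Nat.card cen(y) ≠ a
  · exact d.not_normal_coprime_a hMbot hno
  push Not at hno
  obtain ⟨y, hyM, hy1, hya⟩ := hno
  obtain ⟨r, hr, hrd⟩ := Nat.exists_prime_and_dvd (show orderOf y ≠ 1 by rwa [Ne, orderOf_eq_one_iff])
  haveI := Fact.mk hr
  have hra : r ∣ a := hrd.trans (hya ▸ orderOf_dvd_cen y)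
  have hrM : r ∣ Nat.card M := hrd.trans (Subgroup.orderOf_dvd_natCard _ hyM)
  obtain ⟨R⟩ : Nonempty (Sylow r M) := inferInstance
  haveI : Nontrivial (R : Subgroup M) := by
    rw [← Finite.one_lt_card_iff_nontrivial, R.card_eq_multiplicity]
    exact Nat.one_lt_pow (hr.factorization_pos_of_dvd Nat.card_pos.ne' hrM).ne' hr.one_lt
  haveI := R.isPGroup'.center_nontrivial
  obtain ⟨z', hz'⟩ := exists_ne (1 : Subgroup.center (R : Subgroup M))
  set z : G := (((z' : (R : Subgroup M)) : M) : G) with hz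
  have hz1 : z ≠ 1 := fun e => hz' (Subtype.ext (Subtype.ext (Subtype.ext e)))
  have hRG : IsPGroup r ((R : Subgroup M).map M.subtype) := R.isPGroup'.map _
  have hmem_a : ∀ w ∈ (R : Subgroup M).map M.subtype, w ≠ 1 → Nat.card cen(w) = a := by
    intro w hw hw1
    refine d.cen_of_dvd_a hw1 ?_
    obtain ⟨j, hj⟩ := IsPGroup.iff_orderOf.1 hRG ⟨w, hw⟩
    rw [Subgroup.orderOf_mk] at hj
    have h1 : orderOf w ∣ 2 * (q * b) * a := by
      rw [show 2 * (q * b) * a = 2 * a * b * q by ring, ← d.card]; exact orderOf_dvd_natCard w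
    refine Nat.Coprime.dvd_of_dvd_mul_left ?_ h1
    rw [hj]
    exact (Nat.Coprime.coprime_dvd_left hra d.toParams.cop_a_2qb).pow_left j
  have hza : Nat.card cen(z) = a := hmem_a z ⟨_, (z' : (R : Subgroup M)).2, rfl⟩ hz1
  set A := cen(z)
  set N := Subgroup.normalizer (A : Set G)
  have hN : Nat.card N = 2 * a := d.card_normalizer hz1 hza
  have hRA : (R : Subgroup M).map M.subtype ≤ A := by
    rintro _ ⟨w, hw, rfl⟩
    exact mem_cent.2 (congrArg (fun v : (R : Subgroup M) => ((v : M) : G))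
      (Subgroup.mem_center_iff.1 z'.2 ⟨w, hw⟩))
  have hNR : Subgroup.normalizer (((R : Subgroup M).map M.subtype : Subgroup G) : Set G) ≤ N := by
    intro g hg
    have h1 : g * z * g⁻¹ ∈ (R : Subgroup M).map M.subtype :=
      (Subgroup.mem_normalizer_iff.1 hg z).1 ⟨_, (z' : (R : Subgroup M)).2, rfl⟩
    exact mem_normalizer_of_cen rfl (d.cen_eq_of_a hz1 hza (hRA h1) (conj_ne_one hz1))
  have hMN : M ⊔ N = ⊤ := by
    refine eq_top_iff.2 (le_trans (le_of_eq (Sylow.normalizer_sup_eq_top R).symm) ?_)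
    rw [sup_comm]
    exact sup_le_sup_left hNR M
  have hidxdvd : M.index ∣ 2 * a := by
    rw [← Subgroup.relIndex_top_right, ← hMN, sup_comm, Subgroup.relIndex_sup_right, ← hN]
    exact Subgroup.index_dvd_card _
  have hqall : ∀ g : G, g ≠ 1 → Nat.card cen(g) = q → g ∈ M := fun g _ hgq => mem_of_coprime_index
    (Nat.Coprime.coprime_dvd_left (hgq ▸ orderOf_dvd_cen g)
      (Nat.Coprime.coprime_dvd_right hidxdvd (d.toParams.cop_q2.mul_right d.toParams.cop_qa)))
  obtain ⟨u, f, e, hsum, hu, hf, he⟩ := d.counts (fun g => g ∈ M)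
    (fun g h hg => hMn.conj_mem g hg h) (one_mem M)
  rw [show Nat.card {g : G // g ∈ M} = Nat.card M from rfl] at hsum
  have hu2 : 2 * a * b * u = 4 * a * b := by
    rw [← hu, ← d.counts_univ.1]
    exact Nat.card_congr (Equiv.subtypeEquivRight fun g => ⟨fun h => ⟨h.1.2, h.2⟩,
      fun h => ⟨⟨hqall g h.1 h.2, h.1⟩, h.2⟩⟩)
  rw [hu2] at hsum
  by_cases hMA : M ⊔ A = ⊤
  · have hidxa : M.index ∣ a := by
      rw [← Subgroup.relIndex_top_right, ← hMA, sup_comm, Subgroup.relIndex_sup_right, ← hza]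
      exact Subgroup.index_dvd_card _
    have heall : ∀ g : G, g ≠ 1 → Even (Nat.card cen(g)) → g ∈ M := by
      intro g hg hev
      refine mem_of_coprime_index (Nat.Coprime.coprime_dvd_left (orderOf_dvd_cen g)
        (Nat.Coprime.coprime_dvd_right hidxa ?_))
      rcases d.cases' g hg with c | c | c | c <;> rw [c] at hev ⊢
      · exact absurd hev (Nat.not_even_iff_odd.2 d.toParams.q_odd)
      · exact absurd hev (Nat.not_even_iff_odd.2 d.oddA)
      · exact d.toParams.cop_ab.symm
      · exact Nat.Coprime.mul_left (Nat.coprime_two_left.2 d.oddA) d.toParams.cop_ab.symm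
    have he2 : q * a * e = q * a * (b - 1) := by
      rw [← he, ← d.counts_univ.2.2]
      exact Nat.card_congr (Equiv.subtypeEquivRight fun g => ⟨fun h => ⟨h.1.2, h.2⟩,
        fun h => ⟨⟨heall g h.1 h.2, h.1⟩, h.2⟩⟩)
    rw [he2] at hsum
    obtain ⟨f₀, hf₀⟩ : ∃ f₀, a = 2 * f₀ + 1 := ⟨a / 2, by obtain ⟨c, hc⟩ := d.oddA; omega⟩
    have hff : f ≤ f₀ := by
      refine Nat.le_of_mul_le_mul_left (?_ : 2 * b * q * f ≤ 2 * b * q * f₀) (by positivity)
      rw [← hf, show 2 * b * q * f₀ = (a - 1) * b * q by rw [hf₀, Nat.add_sub_cancel]; ring, ← d.counts_univ.2.1]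
      exact Nat.card_le_card_of_injective (fun g => ⟨g.1, g.2.1.2, g.2.2⟩)
        fun g h e => by simpa [Subtype.ext_iff] using e
    have h1 := M.card_mul_index
    rw [d.card, hsum] at h1
    obtain ⟨b', rfl⟩ : ∃ b', b = b' + 1 := ⟨b - 1, by omega⟩
    rw [Nat.add_sub_cancel] at h1
    have hfull : 1 + 4 * a * (b' + 1) + 2 * (b' + 1) * q * f₀ + q * a * b' = 2 * a * (b' + 1) * q := by
      zify at hqq hs hf₀ ⊢
      linear_combination (-1 : ℤ) * hqq + (q : ℤ) * hs + (-(b' : ℤ) - 1) * q * hf₀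
    have h3 : M.index ≠ 1 := fun e => hMtop (Subgroup.index_eq_one.1 e)
    have h4 : M.index ≠ 2 := fun e => Nat.not_even_iff_odd.2 d.oddA (even_iff_two_dvd.2 (e ▸ hidxa))
    have h5 : 3 ≤ M.index := by
      have := M.index_ne_zero_of_finite
      omega
    obtain ⟨i, hi⟩ : ∃ i, M.index = i + 3 := ⟨M.index - 3, by omega⟩
    obtain ⟨g, rfl⟩ : ∃ g, f₀ = f + g := ⟨f₀ - f, by omega⟩
    rw [hi] at h1
    have h6 : a * (i + 2) = g * (i + 3) := by
      refine Nat.eq_of_mul_eq_mul_left (show 0 < 2 * (b' + 1) * q by positivity) ?_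
      zify at h1 hfull ⊢
      linear_combination h1 - ((i : ℤ) + 3) * hfull
    subst hf₀
    nlinarith
  · have hle : 2 * Nat.card (M ⊔ A : Subgroup G) ≤ 2 * a * b * q := by
      rw [← d.card, ← (M ⊔ A).card_mul_index, mul_comm 2]
      refine Nat.mul_le_mul_left _ ?_
      have h1 : (M ⊔ A).index ≠ 1 := fun e => hMA (Subgroup.index_eq_one.1 e)
      have := (M ⊔ A).index_ne_zero_of_finite
      omega
    have hAall : ∀ v : G, v ≠ 1 → Nat.card cen(v) = a → v ∈ M ⊔ A := by
      intro v hv1 hva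
      obtain ⟨g, hg⟩ := d.conj_cen_a hz1 hza hv1 hva
      have hgmem : g ∈ M ⊔ N := hMN ▸ Subgroup.mem_top g
      obtain ⟨m, hm, n, hn, rfl⟩ := Subgroup.mem_sup_of_normal_left.1 hgmem
      have h1 : v ∈ A.map (MulAut.conj (m * n)).toMonoidHom := hg ▸ mem_cent.2 rfl
      rw [mem_map_conj] at h1
      have h2 : n * ((m * n)⁻¹ * v * (m * n)) * n⁻¹ ∈ A := (Subgroup.mem_normalizer_iff.1 hn _).1 h1
      rw [show n * ((m * n)⁻¹ * v * (m * n)) * n⁻¹ = m⁻¹ * v * m by group] at h2
      have h3 := mul_mem (mul_mem (Subgroup.mem_sup_left (T := A) hm) (Subgroup.mem_sup_right (S := M) h2))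
        (Subgroup.mem_sup_left (T := A) (inv_mem hm))
      rwa [show m * (m⁻¹ * v * m) * m⁻¹ = v by group] at h3
    have hlow : 1 + 4 * a * b + (a - 1) * b * q ≤ Nat.card (M ⊔ A : Subgroup G) := by
      haveI := Fintype.ofFinite G
      have h1 := d.counts_univ.1
      have h2 := d.counts_univ.2.1
      rw [Nat.card_eq_fintype_card, Fintype.card_subtype] at h1 h2
      rw [← h1, ← h2, add_assoc, ← Finset.card_union_of_disjoint (Finset.disjoint_filter.2 fun g _ x y => by
          rw [x.2] at y; have := y.2; omega), add_comm, ← Finset.card_insert_of_notMem (a := (1 : G)) (by simp)]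
      rw [show Nat.card (M ⊔ A : Subgroup G) = (Finset.univ.filter fun g => g ∈ M ⊔ A).card by
        rw [Nat.card_eq_fintype_card, Fintype.card_subtype]]
      refine Finset.card_le_card fun g hg => ?_
      simp only [Finset.mem_insert, Finset.mem_union, Finset.mem_filter, Finset.mem_univ, true_and] at hg ⊢
      rcases hg with rfl | ⟨h, h'⟩ | ⟨h, h'⟩
      exacts [one_mem _, Subgroup.mem_sup_left (hqall g h h'), hAall g h h']
    obtain ⟨a', rfl⟩ : ∃ a', a = a' + 1 := ⟨a - 1, by omega⟩
    rw [Nat.add_sub_cancel] at hlow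
    nlinarith [Nat.mul_lt_mul_of_pos_right (show b < q by omega) (show 0 < q by omega)]

end Data

end CfsgLib.Recog.ClassPSL
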