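import Cfsg.Agent.Lib.Recog.ClassPSL.Defs
import Cfsg.Agent.Lib.Recog.NonCA.PSLCentralizer
import Cfsg.Agent.Lib.Classical.SLTwoSylowTwo
import Cfsg.Agent.Lib.CoprimeClass.Transfer
import Cfsg.Agent.Lib.ClassK.SmallSimple
import Cfsg.Agent.Lib.Geom.PSLTwoSolvable

/-!
The centre splits off when the central quotient is `PSL(2,q)` and commuting pairs lift: by transfer a
central `r`-element of the derived group lies in the derived group of a Sylow `r`-subgroup, which is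
trivial there.
-/

set_option autoImplicit false
set_option linter.unusedSectionVars false
set_option linter.style.haveILetI false

namespace CfsgLib.Recog.ClassPSL

open Subgroup
open scoped commutatorElement

universe u

variable {F : Type} [Field F] [Fintype F]

local notation "S" => Matrix.ProjectiveSpecialLinearGroup (Fin 2) F

/-- A `2`-subgroup has a cyclic subgroup of index at most two. -/
theorem psl_two_subgroup (hodd : Odd (Fintype.card F)) {P : Subgroup S} (hP : IsPGroup 2 P) :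
    ∃ g : S, ∀ x ∈ P, ∀ y ∈ P, x ∉ zpowers g → y ∉ zpowers g → x⁻¹ * y ∈ zpowers g := by
  classical
  haveI : Fact (Nat.Prime 2) := ⟨Nat.prime_two⟩
  obtain ⟨k, -, -, hQ⟩ := CfsgLib.Classical.sylow_two_sl_two (F := F) hodd
  haveI : NeZero (2 ^ k) := ⟨by positivity⟩
  let π : Matrix.SpecialLinearGroup (Fin 2) F →* S := QuotientGroup.mk' _
  obtain ⟨T⟩ : Nonempty (Sylow 2 (Matrix.SpecialLinearGroup (Fin 2) F)) := inferInstance
  obtain ⟨e⟩ := hQ T
  obtain ⟨R, hR⟩ := hP.exists_le_sylow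
  obtain ⟨c, hc⟩ := MulAction.exists_smul_eq S (T.mapSurjective (f := π) (QuotientGroup.mk'_surjective _)) R
  set w : (T : Subgroup (Matrix.SpecialLinearGroup (Fin 2) F)) := e.symm (QuaternionGroup.a 1)
  refine ⟨c * π w * c⁻¹, fun x hx y hy hx' hy' => ?_⟩
  have hmem : ∀ v ∈ P, ∃ t : (T : Subgroup (Matrix.SpecialLinearGroup (Fin 2) F)), v = c * π t * c⁻¹ := by
    intro v hv
    have hv' := hR hv
    rw [← hc] at hv'
    obtain ⟨_, ⟨t, ht, rfl⟩, rfl⟩ := hv'
    exact ⟨⟨t, ht⟩, rfl⟩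
  have hcyc : ∀ (t : (T : Subgroup (Matrix.SpecialLinearGroup (Fin 2) F))) (i : ZMod (2 * 2 ^ k)),
      e t = QuaternionGroup.a i → c * π t * c⁻¹ ∈ zpowers (c * π w * c⁻¹) := by
    intro t i hi
    have ht : t = w ^ i.val := by
      apply e.injective
      rw [map_pow, MulEquiv.apply_symm_apply, QuaternionGroup.a_one_pow, ZMod.natCast_zmod_val, hi]
    rw [ht, SubgroupClass.coe_pow, map_pow, ← conj_pow]
    exact pow_mem (mem_zpowers _) _
  obtain ⟨tx, rfl⟩ := hmem x hx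
  obtain ⟨ty, rfl⟩ := hmem y hy
  rcases hex : e tx with i | i
  · exact absurd (hcyc tx i hex) hx'
  rcases hey : e ty with j | j
  · exact absurd (hcyc ty j hey) hy'
  have h : ∃ l, e (tx⁻¹ * ty) = QuaternionGroup.a l := by
    rw [map_mul, map_inv, hex, hey]
    exact ⟨_, rfl⟩
  obtain ⟨l, hl⟩ := h
  have := hcyc _ l hl
  simpa [mul_assoc] using this

/-- An odd prime, or characteristic two: a `p`-subgroup of `PSL(2,q)` is commutative. -/
theorem psl_pGroup_comm {r : ℕ} [Fact r.Prime] {P : Subgroup S} (hP : IsPGroup r P)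
    (h : r ≠ 2 ∨ (2 : F) = 0) {a b : S} (ha : a ∈ P) (hb : b ∈ P) : a * b = b * a := by
  by_cases ha1 : a = 1
  · rw [ha1, one_mul, mul_one]
  haveI : Nontrivial P := ⟨⟨a, ha⟩, 1, fun e => ha1 (congrArg Subtype.val e)⟩
  haveI := hP.center_nontrivial
  obtain ⟨⟨⟨x, hx⟩, hxc⟩, hx1⟩ := exists_ne (1 : Subgroup.center P)
  have hx1' : x ≠ 1 := fun e => hx1 (Subtype.ext (Subtype.ext e))
  have hcom : ∀ v ∈ P, v * x = x * v := fun v hv =>
    congrArg Subtype.val (mem_center_iff.1 hxc ⟨v, hv⟩)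
  refine CfsgLib.Recog.NonCA.psl_comm_of hx1' ?_ (hcom a ha) (hcom b hb)
  refine h.imp_left fun hr e => ?_
  obtain ⟨i, hi⟩ := hP ⟨x, hx⟩
  have hi' : x ^ r ^ i = 1 := congrArg Subtype.val hi
  have hcop : Nat.Coprime 2 (r ^ i) :=
    ((Nat.coprime_primes Nat.prime_two (Fact.out : r.Prime)).2 (Ne.symm hr)).pow_right i
  exact hx1' (orderOf_eq_one_iff.1 (Nat.eq_one_of_dvd_coprimes hcop
    (orderOf_dvd_of_pow_eq_one (by rw [pow_two]; exact e)) (orderOf_dvd_of_pow_eq_one hi')))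

variable {G : Type u} [Group G] [Finite G]

/-- A central element of a Sylow subgroup inside its derived group is trivial. -/
theorem eq_one_of_commutator (hL : Lifts G) (φ : G →* S) (hker : φ.ker = Subgroup.center G) {r : ℕ}
    [Fact r.Prime] {R : Subgroup G} (hR : IsPGroup r R) {z : G} (hzR : z ∈ ⁅R, R⁆)
    (hz : z ∈ Subgroup.center G) : z = 1 := by
  have lift : ∀ {a b : G}, φ a * φ b = φ b * φ a → a * b = b * a := fun {a b} h => by
    refine hL b a ?_
    show (a : G ⧸ Subgroup.center G) * b = b * a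
    rw [← QuotientGroup.mk_mul, ← QuotientGroup.mk_mul, QuotientGroup.eq, ← hker, MonoidHom.mem_ker]
    simp only [map_mul, map_inv]
    rw [h, inv_mul_cancel]
  have habel : (∀ a ∈ R, ∀ b ∈ R, a * b = b * a) → z = 1 := fun h => by
    have : ⁅R, R⁆ ≤ ⊥ := Subgroup.commutator_le.2 fun a ha b hb =>
      mem_bot.2 (commutatorElement_eq_one_iff_mul_comm.2 (h a ha b hb))
    exact mem_bot.1 (this hzR)
  have hRφ : IsPGroup r (R.map φ) := hR.map φ
  by_cases hcase : r ≠ 2 ∨ (2 : F) = 0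
  · exact habel fun a ha b hb => lift
      (psl_pGroup_comm hRφ hcase ⟨a, ha, rfl⟩ ⟨b, hb, rfl⟩)
  push Not at hcase
  obtain ⟨rfl, h2⟩ := hcase
  have hodd : Odd (Fintype.card F) := by
    rcases Nat.even_or_odd (Fintype.card F) with h | h
    · exact absurd (CfsgLib.Recog.NonCA.two_eq_zero_of_even h) h2
    · exact h
  obtain ⟨g, hg⟩ := psl_two_subgroup hodd hRφ
  set A : Subgroup G := R ⊓ (zpowers g).comap φ with hAdef
  have hA : ∀ v ∈ R, v ∈ A ↔ φ v ∈ zpowers g := fun v hv => ⟨fun h => h.2, fun h => ⟨hv, h⟩⟩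
  have hAc : ∀ a ∈ A, ∀ b ∈ A, a * b = b * a := fun a ha b hb => by
    refine lift ?_
    obtain ⟨i, hi⟩ := mem_zpowers_iff.1 ha.2
    obtain ⟨j, hj⟩ := mem_zpowers_iff.1 hb.2
    rw [← hi, ← hj]
    exact ((Commute.refl g).zpow_zpow i j).eq
  by_cases hall : ∀ v ∈ R, φ v ∈ zpowers g
  · exact habel fun a ha b hb => hAc a ⟨ha, hall a ha⟩ b ⟨hb, hall b hb⟩
  push Not at hall
  obtain ⟨s, hs, hsg⟩ := hall
  have hdiv : ∀ v ∈ R, v ∈ A ∨ s⁻¹ * v ∈ A := fun v hv => by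
    by_cases h : φ v ∈ zpowers g
    · exact Or.inl ⟨hv, h⟩
    · refine Or.inr ⟨R.mul_mem (R.inv_mem hs) hv, ?_⟩
      show φ (s⁻¹ * v) ∈ zpowers g
      rw [map_mul, map_inv]
      exact hg _ ⟨s, hs, rfl⟩ _ ⟨v, hv, rfl⟩ hsg h
  have hnorm : ∀ a ∈ A, s * a * s⁻¹ ∈ A := fun a ha => by
    refine ⟨R.mul_mem (R.mul_mem hs ha.1) (R.inv_mem hs), ?_⟩
    show φ (s * a * s⁻¹) ∈ zpowers g
    have h1 := hg (φ s⁻¹) ⟨_, inv_mem hs, rfl⟩ (φ (a * s⁻¹)) ⟨_, mul_mem ha.1 (inv_mem hs), rfl⟩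
      (by rw [map_inv]; exact fun h => hsg (inv_mem_iff.1 h))
      (by
        rw [map_mul, map_inv]
        exact fun h => hsg (inv_mem_iff.1 (((zpowers g).mul_mem_cancel_left ha.2).1 h)))
    simpa [map_mul, map_inv, mul_assoc] using h1
  let I : Subgroup G :=
    { carrier := {c | ∃ a ∈ A, c = s * a * s⁻¹ * a⁻¹}
      one_mem' := ⟨1, one_mem _, by group⟩
      mul_mem' := by
        rintro _ _ ⟨a, ha, rfl⟩ ⟨b, hb, rfl⟩
        refine ⟨a * b, mul_mem ha hb, ?_⟩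
        have e : s * a * s⁻¹ * a⁻¹ * (s * b * s⁻¹) = s * a * s⁻¹ * (s * b * s⁻¹) * a⁻¹ := by
          rw [mul_assoc, hAc _ (inv_mem ha) _ (hnorm b hb), ← mul_assoc]
        calc s * a * s⁻¹ * a⁻¹ * (s * b * s⁻¹ * b⁻¹)
            = (s * a * s⁻¹ * a⁻¹ * (s * b * s⁻¹)) * b⁻¹ := by group
          _ = s * (a * b) * s⁻¹ * (a⁻¹ * b⁻¹) := by rw [e]; group
          _ = _ := by rw [← mul_inv_rev, hAc b hb a ha]
      inv_mem' := by
        rintro _ ⟨a, ha, rfl⟩
        refine ⟨a⁻¹, inv_mem ha, ?_⟩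
        calc (s * a * s⁻¹ * a⁻¹)⁻¹ = a * (s * a⁻¹ * s⁻¹) := by group
          _ = s * a⁻¹ * s⁻¹ * a := hAc _ ha _ (hnorm _ (inv_mem ha))
          _ = _ := by rw [inv_inv] }
  have hsI : ∀ c ∈ I, s * c * s⁻¹ ∈ I := by
    rintro _ ⟨a, ha, rfl⟩
    exact ⟨s * a * s⁻¹, hnorm a ha, by group⟩
  have hIA : ∀ c ∈ I, c ∈ A := by
    rintro _ ⟨a, ha, rfl⟩
    exact mul_mem (hnorm a ha) (inv_mem ha)
  have hRI : ⁅R, R⁆ ≤ I := Subgroup.commutator_le.2 fun u hu v hv => by
    rcases hdiv u hu with ha | ha <;> rcases hdiv v hv with hb | hb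
    · rw [commutatorElement_eq_one_iff_mul_comm.2 (hAc u ha v hb)]
      exact one_mem I
    · obtain ⟨b, hb', rfl⟩ : ∃ b ∈ A, v = s * b := ⟨_, hb, by group⟩
      have e : ⁅s * b, u⁆ = s * u * s⁻¹ * u⁻¹ := by
        calc ⁅s * b, u⁆ = s * (b * u) * b⁻¹ * s⁻¹ * u⁻¹ := by rw [commutatorElement_def]; group
          _ = _ := by rw [hAc b hb' u ha]; group
      rw [← commutatorElement_inv, e]
      exact inv_mem ⟨u, ha, rfl⟩
    · obtain ⟨a, ha', rfl⟩ : ∃ a ∈ A, u = s * a := ⟨_, ha, by group⟩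
      have e : ⁅s * a, v⁆ = s * v * s⁻¹ * v⁻¹ := by
        calc ⁅s * a, v⁆ = s * (a * v) * a⁻¹ * s⁻¹ * v⁻¹ := by rw [commutatorElement_def]; group
          _ = _ := by rw [hAc a ha' v hb]; group
      rw [e]
      exact ⟨v, hb, rfl⟩
    · obtain ⟨a, ha', rfl⟩ : ∃ a ∈ A, u = s * a := ⟨_, ha, by group⟩
      obtain ⟨c, hc, rfl⟩ : ∃ c ∈ A, v = s * a * c :=
        ⟨_, mul_mem (inv_mem ha') hb, by group⟩
      have hi : s * c * s⁻¹ * c⁻¹ ∈ I := ⟨c, hc, rfl⟩
      have e : ⁅s * a, s * a * c⁆ = s * (s * c * s⁻¹ * c⁻¹) * s⁻¹ := by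
        calc ⁅s * a, s * a * c⁆ = s * (a * (s * (a * c) * a⁻¹ * s⁻¹ * c⁻¹) * a⁻¹) * s⁻¹ := by
              rw [commutatorElement_def]; group
          _ = s * (a * (s * c * s⁻¹ * c⁻¹) * a⁻¹) * s⁻¹ := by rw [hAc a ha' c hc]; group
          _ = _ := by rw [hAc a ha' _ (hIA _ hi)]; group
      rw [e]
      exact hsI _ hi
  obtain ⟨a, ha, rfl⟩ := hRI hzR
  have hφ : φ (s * a * s⁻¹ * a⁻¹) = 1 := by rw [← MonoidHom.mem_ker, hker]; exact hz
  simp only [map_mul, map_inv] at hφ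
  have := lift (a := s) (b := a) (mul_inv_eq_iff_eq_mul.1 (mul_inv_eq_one.1 hφ))
  rw [this, mul_inv_cancel_right, mul_inv_cancel]

theorem centreSplits : CentreSplits.{u} := by
  rintro G _ _ q hq ⟨hL, F, _, _, hF, ⟨e⟩⟩
  set mk := QuotientGroup.mk' (Subgroup.center G)
  have h4 : 4 ≤ Fintype.card F := hF ▸ hq
  haveI : IsSimpleGroup (Matrix.ProjectiveSpecialLinearGroup (Fin 2) F) :=
    CfsgLib.ClassK.isSimpleGroup_psl_two h4
  set φ : G →* Matrix.ProjectiveSpecialLinearGroup (Fin 2) F := e.toMonoidHom.comp mk with hφdef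
  have hφs : Function.Surjective φ := e.surjective.comp (QuotientGroup.mk'_surjective _)
  have hker : φ.ker = Subgroup.center G := by
    ext v
    rw [MonoidHom.mem_ker, hφdef, MonoidHom.comp_apply, MulEquiv.coe_toMonoidHom,
      MulEquiv.map_eq_one_iff, QuotientGroup.mk'_apply, QuotientGroup.eq_one_iff]
  have hperf : commutator (Matrix.ProjectiveSpecialLinearGroup (Fin 2) F) = ⊤ := by
    refine (Subgroup.Normal.eq_bot_or_eq_top inferInstance).resolve_left fun h => ?_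
    refine CfsgLib.Geom.Moebius.psl_not_comm h4 fun a b => commutatorElement_eq_one_iff_mul_comm.1 ?_
    rw [← mem_bot, ← h, _root_.commutator_def]
    exact Subgroup.commutator_mem_commutator (mem_top a) (mem_top b)
  set N := commutator G with hN
  have hNφ : N.map φ = ⊤ := by
    rw [hN, _root_.commutator_def, Subgroup.map_commutator, Subgroup.map_top_of_surjective φ hφs,
      ← _root_.commutator_def, hperf]
  have hbot : N ⊓ Subgroup.center G = ⊥ := by
    refine (eq_bot_iff_forall _).2 fun z hz => ?_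
    have key : ∀ (k r : ℕ), r.Prime → (∃ i, orderOf (z ^ k) = r ^ i) → z ^ k ∈ (⊥ : Subgroup G) := by
      rintro k r hr ⟨i, hi⟩
      haveI := Fact.mk hr
      obtain ⟨hzN, hzc⟩ := pow_mem hz k
      have hpz : IsPGroup r (zpowers (z ^ k)) := IsPGroup.of_card (n := i) (by rw [Nat.card_zpowers, hi])
      obtain ⟨R, hR⟩ := hpz.exists_le_sylow
      have := CfsgLib.CoprimeClass.central_mem_commutator_subgroup hr (R : Subgroup G)
        R.not_dvd_index hzc ⟨i, hi ▸ pow_orderOf_eq_one _⟩ hzN (hR (mem_zpowers _))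
      exact mem_bot.2 (eq_one_of_commutator hL φ hker R.2 this hzc)
    exact mem_bot.1 (CfsgLib.StructC.ClassCoprime.mem_of_primary key)
  refine ⟨N, Subgroup.center G, inferInstance, le_rfl, hbot, ?_, ?_⟩
  · have h := Subgroup.comap_map_eq φ N
    rw [hNφ, comap_top, hker] at h
    exact h.symm
  · have hinj : Function.Injective (φ.comp N.subtype) := by
      rw [injective_iff_map_eq_one]
      intro n hn
      have h1 : (n : G) ∈ φ.ker := hn
      rw [hker] at h1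
      exact Subtype.ext (mem_bot.1 (hbot ▸ (⟨n.2, h1⟩ : (n : G) ∈ N ⊓ Subgroup.center G)))
    have hsurj : Function.Surjective (φ.comp N.subtype) := fun x => by
      obtain ⟨n, hn, rfl⟩ := (hNφ.ge (mem_top x) : x ∈ N.map φ)
      exact ⟨⟨n, hn⟩, rfl⟩
    exact ⟨(MulEquiv.ofBijective _ ⟨hinj, hsurj⟩).trans e.symm⟩

end CfsgLib.Recog.ClassPSL
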