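import Cfsg.Agent.Lib.Recog.ClassPSL.Count
import Cfsg.Agent.Lib.Invol.Basic

/-!
The subgroups of order `a`: conjugate, trivial intersections, each inverted by `a` involutions.
-/

set_option autoImplicit false
set_option linter.unusedSectionVars false
set_option linter.style.haveILetI false

namespace CfsgLib.Recog.ClassPSL

open CfsgLib.StructC.ClassCoprime
open scoped Classical

universe u

variable {G : Type u} [Group G] [Finite G] {q a b : ℕ}

local notation "cen(" x ")" => Subgroup.centralizer ({x} : Set G)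

theorem conj_ne_one {g y : G} (hy : y ≠ 1) : g * y * g⁻¹ ≠ 1 := fun e => hy (conj_eq_one_iff.1 e)

/-- Conjugation preserves the normaliser-type membership. -/
theorem mem_normalizer_of_cen {A : Subgroup G} {g y : G} (hy : cen(y) = A) (hgy : cen(g * y * g⁻¹) = A) :
    g ∈ Subgroup.normalizer (A : Set G) := by
  have h1 : A.map (MulAut.conj g).toMonoidHom = A := by
    conv_lhs => rw [← hy]
    rw [← cen_conj_map, hgy]
  refine Subgroup.mem_normalizer_iff.2 fun w => ?_
  conv_rhs => rw [← h1]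
  rw [mem_map_conj, show g⁻¹ * (g * w * g⁻¹) * g = w by group]

namespace Data

variable (d : Data G q a b)
include d

theorem conj_cen_a {x y : G} (hx : x ≠ 1) (hxa : Nat.card cen(x) = a) (hy : y ≠ 1) (hya : Nat.card cen(y) = a) :
    ∃ g : G, cen(y) = cen(x).map (MulAut.conj g).toMonoidHom := by
  have ha := d.toParams.a_ge
  obtain ⟨r, hr, hra⟩ := Nat.exists_prime_and_dvd (show a ≠ 1 by omega)
  haveI := Fact.mk hr
  have hfac : ∀ z : G, Nat.card cen(z) = a →
      (Nat.card G).factorization r = (Nat.card cen(z)).factorization r := fun z hz => by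
    rw [d.card, hz, show 2 * a * b * q = (2 * (q * b)) * a by ring,
      Nat.factorization_mul (by have := d.toParams.q_pos; have := d.toParams.b_pos; positivity) (by omega),
      Finsupp.add_apply, Nat.factorization_eq_zero_of_not_dvd
        (fun h => hr.ne_one (Nat.eq_one_of_dvd_coprimes d.toParams.cop_a_2qb hra h)), zero_add]
  obtain ⟨R₁⟩ : Nonempty (Sylow r cen(x)) := inferInstance
  obtain ⟨R₂⟩ : Nonempty (Sylow r cen(y)) := inferInstance
  have hR : ∀ (z : G) (R : Sylow r cen(z)), Nat.card cen(z) = a →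
      Nat.card ((R : Subgroup cen(z)).map cen(z).subtype) = r ^ (Nat.card G).factorization r := fun z R hz => by
    rw [Subgroup.card_map_of_injective cen(z).subtype_injective, R.card_eq_multiplicity, hfac z hz]
  let P₁ : Sylow r G := Sylow.ofCard _ (hR x R₁ hxa)
  let P₂ : Sylow r G := Sylow.ofCard _ (hR y R₂ hya)
  obtain ⟨g, hg⟩ := MulAction.exists_smul_eq G P₁ P₂
  have hP1 : (P₁ : Subgroup G) ≠ ⊥ := by
    intro e
    have h1 := hR x R₁ hxa
    rw [show ((R₁ : Subgroup cen(x)).map cen(x).subtype) = (P₁ : Subgroup G) from rfl, e, Subgroup.card_bot,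
      hfac x hxa, hxa] at h1
    have h2 : r ^ 1 ≤ r ^ a.factorization r :=
      Nat.pow_le_pow_right hr.pos (hr.factorization_pos_of_dvd (by omega) hra)
    rw [pow_one, ← h1] at h2
    exact absurd h2 (not_le.2 hr.one_lt)
  obtain ⟨z, hz, hz1⟩ := (Subgroup.bot_or_exists_ne_one (P₁ : Subgroup G)).resolve_left hP1
  have hz2 : g * z * g⁻¹ ∈ (P₂ : Subgroup G) := by
    rw [← hg]
    exact ⟨z, hz, rfl⟩
  refine ⟨g, ?_⟩
  rw [← d.cen_eq_of_a hy hya (Subgroup.map_subtype_le _ hz2) (conj_ne_one hz1), cen_conj_map,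
    d.cen_eq_of_a hx hxa (Subgroup.map_subtype_le _ hz) hz1]

theorem card_normalizer {x : G} (hx : x ≠ 1) (hxa : Nat.card cen(x) = a) :
    Nat.card (Subgroup.normalizer (cen(x) : Set G)) = 2 * a := by
  have ha := d.toParams.a_ge
  have h := card_ti (by omega : a ≠ 1) hxa (fun y hy hy1 => d.cen_eq_of_a hx hxa hy hy1)
    fun y hy hya => d.conj_cen_a hx hxa hy hya
  rw [d.counts_univ.2.1, d.card] at h
  refine Nat.eq_of_mul_eq_mul_left (show 0 < (a - 1) * b * q from
    Nat.mul_pos (Nat.mul_pos (by omega) d.toParams.b_pos) d.toParams.q_pos) (h.trans (by ring))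

/-- Elements inverting a non-trivial element of order dividing `a`. -/
theorem exists_inverting {x : G} (hx : x ≠ 1) (hxa : Nat.card cen(x) = a) :
    ∃ w : G, orderOf w = 2 ∧ w ∉ cen(x) ∧ (∀ y ∈ cen(x), w * y * w⁻¹ = y⁻¹) ∧
      ∀ g ∈ Subgroup.normalizer (cen(x) : Set G), g ∈ cen(x) ∨ w * g ∈ cen(x) := by
  have ha := d.toParams.a_ge
  haveI : Fact (Nat.Prime 2) := ⟨Nat.prime_two⟩
  set A := cen(x)
  set N := Subgroup.normalizer (A : Set G)
  have hN : Nat.card N = 2 * a := d.card_normalizer hx hxa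
  obtain ⟨⟨w, hwN⟩, hw⟩ := exists_prime_orderOf_dvd_card' (G := N) 2 (hN ▸ dvd_mul_right 2 a)
  rw [← Subgroup.orderOf_coe] at hw
  have hwA : w ∉ A := fun h => by
    have := hxa ▸ hw ▸ Subgroup.orderOf_dvd_natCard _ h
    exact Nat.not_even_iff_odd.2 d.oddA (even_iff_two_dvd.2 this)
  have hidx : (A.subgroupOf N).index = 2 := by
    have h1 := (A.subgroupOf N).card_mul_index
    rw [Nat.card_congr (Subgroup.subgroupOfEquivOfLe (Subgroup.le_normalizer : A ≤ N)).toEquiv, hxa, hN,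
      mul_comm 2 a] at h1
    exact Nat.eq_of_mul_eq_mul_left (by omega : 0 < a) h1
  have hww : w * w = 1 := CfsgLib.Invol.invol_mul_self hw
  refine ⟨w, hw, hwA, fun y hy => ?_, fun g hg => ?_⟩
  · set v := y * (w * y * w⁻¹)
    have hwy : w * y * w⁻¹ ∈ A := (Subgroup.mem_normalizer_iff.1 hwN y).1 hy
    have hv : v ∈ A := mul_mem hy hwy
    have hab : ∀ u ∈ A, ∀ v ∈ A, u * v = v * u := fun u hu v hv => by
      by_cases hv1 : v = 1
      · rw [hv1, mul_one, one_mul]
      · exact mem_cent.1 ((d.cen_eq_of_a hx hxa hv hv1).symm ▸ hu)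
    have hwv : w * v = v * w := by
      have hwi : w⁻¹ = w := CfsgLib.Invol.invol_inv hw
      have h1 : w * v * w⁻¹ = v := by
        show w * (y * (w * y * w⁻¹)) * w⁻¹ = y * (w * y * w⁻¹)
        rw [show w * (y * (w * y * w⁻¹)) * w⁻¹ = w * y * w⁻¹ * (w * w * y * (w * w)⁻¹) by group, hww]
        rw [inv_one, mul_one, one_mul]
        exact hab _ hwy _ hy
      calc w * v = w * v * w⁻¹ * w := by group
        _ = v * w := by rw [h1]
    by_contra hne
    have hv1 : v ≠ 1 := fun e => hne (eq_inv_of_mul_eq_one_right e)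
    exact hwA (le_of_eq (d.cen_eq_of_a hx hxa hv hv1) (mem_cent.2 hwv))
  · by_cases hgA : g ∈ A
    · exact Or.inl hgA
    refine Or.inr ?_
    have := Subgroup.mul_mem_iff_of_index_two hidx (a := (⟨w, hwN⟩ : N)) (b := ⟨g, hg⟩)
    simp only [Subgroup.mem_subgroupOf] at this
    exact this.2 ⟨fun h => absurd h hwA, fun h => absurd h hgA⟩

/-- A non-trivial element of order dividing `a` is inverted by exactly `a` involutions, and by no other element. -/
theorem card_inverting {y : G} (hy : y ≠ 1) (hya : Nat.card cen(y) = a) :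
    Nat.card {v : G // orderOf v = 2 ∧ v * y * v⁻¹ = y⁻¹} = a := by
  obtain ⟨w, hw, hwA, hinv, hN⟩ := d.exists_inverting hy hya
  have hww : w * w = 1 := CfsgLib.Invol.invol_mul_self hw
  have ha := d.toParams.a_ge
  have hyd : orderOf y ∣ a := hya ▸ orderOf_dvd_cen y
  refine Eq.trans (Nat.card_congr ?_) hya
  refine
    { toFun := fun v => ⟨w * v.1, ?_⟩
      invFun := fun u => ⟨w * u.1, ?_, ?_⟩
      left_inv := fun v => Subtype.ext (by show w * (w * v.1) = v.1; rw [← mul_assoc, hww, one_mul])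
      right_inv := fun u => Subtype.ext (by show w * (w * u.1) = u.1; rw [← mul_assoc, hww, one_mul]) }
  · obtain ⟨v, hv, hvy⟩ := v
    refine mem_cent.2 ?_
    show w * v * y = y * (w * v)
    have h1 : w * v * y * (w * v)⁻¹ = y := by
      rw [show w * v * y * (w * v)⁻¹ = w * (v * y * v⁻¹) * w⁻¹ by group, hvy, ← conj_inv,
        hinv y (mem_cent.2 rfl), inv_inv]
    calc w * v * y = w * v * y * (w * v)⁻¹ * (w * v) := by group
      _ = y * (w * v) := by rw [h1]
  · refine CfsgLib.Invol.invol_of_mul_self ?_ fun e => hwA ?_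
    · calc w * u.1 * (w * u.1) = (w * u.1 * w⁻¹) * (w * w) * u.1 := by group
        _ = 1 := by rw [hinv _ u.2, hww, mul_one, inv_mul_cancel]
    · rw [mul_eq_one_iff_eq_inv.1 e]
      exact inv_mem u.2
  · rw [show w * u.1 * y * (w * u.1)⁻¹ = w * (u.1 * y * u.1⁻¹) * w⁻¹ by group, conj_eq_of_mem_cent u.2]
    exact hinv y (mem_cent.2 rfl)

/-- For `q ≡ 3 (mod 4)` an element of order dividing `q` is inverted by no involution. -/
theorem not_inverted_q (hab : b = a + 1) {y v : G} (hyq : Nat.card cen(y) = q) (hv : orderOf v = 2)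
    (hvy : v * y * v⁻¹ = y⁻¹) : False := by
  have hq := d.toParams.q_ge
  have hvv := CfsgLib.Invol.invol_mul_self hv
  set P := cen(y)
  have hnorm : ∀ u ∈ P, v * u * v⁻¹ ∈ P := fun u hu => by
    have hyv : v⁻¹ * y * v = y⁻¹ := by
      have h1 : v⁻¹ = v := CfsgLib.Invol.invol_inv hv
      rw [h1]; rwa [h1] at hvy
    refine mem_cent.2 ?_
    have h2 : Commute u y⁻¹ := Commute.inv_right (mem_cent.1 hu)
    calc v * u * v⁻¹ * y = v * (u * (v⁻¹ * y * v)) * v⁻¹ := by group
      _ = v * (v⁻¹ * y * v * u) * v⁻¹ := by rw [hyv, h2.eq]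
      _ = y * (v * u * v⁻¹) := by group
  have hfree : ∀ u ∈ P, v * u * v⁻¹ = u → u = 1 := fun u hu he => by
    by_contra hne
    have h1 : Nat.card cen(u) = q := d.cen_of_dvd_q hne (hyq ▸ Subgroup.orderOf_dvd_natCard _ hu)
    have h2 : v ∈ cen(u) := mem_cent.2 (by
      calc v * u = v * u * v⁻¹ * v := by group
        _ = u * v := by rw [he])
    have h3 := h1 ▸ hv ▸ Subgroup.orderOf_dvd_natCard _ h2
    exact Nat.not_even_iff_odd.2 d.toParams.q_odd (even_iff_two_dvd.2 h3)
  haveI := Fintype.ofFinite P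
  let φ : P → P := fun u => ⟨(u : G)⁻¹ * (v * u * v⁻¹), mul_mem (inv_mem u.2) (hnorm u u.2)⟩
  have hφ : Function.Injective φ := fun u w e => by
    have e' : (u : G)⁻¹ * (v * u * v⁻¹) = (w : G)⁻¹ * (v * w * v⁻¹) := congrArg Subtype.val e
    have h1 : v * ((w : G) * (u : G)⁻¹) * v⁻¹ = (w : G) * (u : G)⁻¹ := by
      calc v * ((w : G) * (u : G)⁻¹) * v⁻¹ = (w : G) * ((w : G)⁻¹ * (v * w * v⁻¹)) * (v * u * v⁻¹)⁻¹ := by group
        _ = (w : G) * ((u : G)⁻¹ * (v * u * v⁻¹)) * (v * u * v⁻¹)⁻¹ := by rw [e']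
        _ = (w : G) * (u : G)⁻¹ := by group
    exact Subtype.ext (mul_inv_eq_one.1 (hfree _ (mul_mem w.2 (inv_mem u.2)) h1)).symm
  have hinvP : ∀ u ∈ P, v * u * v⁻¹ = u⁻¹ := fun u hu => by
    obtain ⟨w, hw⟩ := (Finite.injective_iff_surjective.1 hφ) ⟨u, hu⟩
    rw [show u = (w : G)⁻¹ * (v * w * v⁻¹) from (congrArg Subtype.val hw).symm]
    rw [show v * ((w : G)⁻¹ * (v * w * v⁻¹)) * v⁻¹ = (v * w * v⁻¹)⁻¹ * (v * v * w * (v * v)⁻¹) by group, hvv]
    group
  have hab' : ∀ u ∈ P, ∀ w ∈ P, u * w = w * u := fun u hu w hw => by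
    have h1 := hinvP _ (mul_mem hu hw)
    rw [show v * (u * w) * v⁻¹ = v * u * v⁻¹ * (v * w * v⁻¹) by group, hinvP u hu, hinvP w hw,
      ← mul_inv_rev, inv_inj] at h1
    exact h1.symm
  have hcenP : ∀ u ∈ P, u ≠ 1 → cen(u) = P := fun u hu h1 =>
    (Subgroup.eq_of_le_of_card_ge (fun w hw => mem_cent.2 (hab' w hw u hu))
      ((d.cen_of_dvd_q h1 (hyq ▸ Subgroup.orderOf_dvd_natCard _ hu)).trans hyq.symm).le).symm
  obtain ⟨p, k, hp, hk, hpk⟩ := (isPrimePow_nat_iff q).1 d.pp
  haveI := Fact.mk hp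
  have hfac : (Nat.card G).factorization p = k := by
    rw [d.card, Nat.factorization_mul (by have := d.toParams.a_pos; have := d.toParams.b_pos; positivity) (by omega),
      Finsupp.add_apply, Nat.factorization_eq_zero_of_not_dvd (fun h => hp.ne_one (Nat.eq_one_of_dvd_coprimes
        d.toParams.cop_q_2ab (hpk ▸ dvd_pow_self p hk.ne') h)), zero_add, ← hpk, Nat.factorization_pow_self hp]
  have hsyl : ∀ z : G, Nat.card cen(z) = q → Nat.card cen(z) = p ^ (Nat.card G).factorization p := fun z hz => by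
    rw [hz, hfac, hpk]
  have h := card_ti (by omega : q ≠ 1) hyq hcenP fun z _ hzq => by
    obtain ⟨g, hg⟩ := MulAction.exists_smul_eq G (Sylow.ofCard P (hsyl y hyq)) (Sylow.ofCard cen(z) (hsyl z hzq))
    exact ⟨g, (congrArg (fun S : Sylow p G => (S : Subgroup G)) hg).symm⟩
  rw [d.counts_univ.1, d.card, show q - 1 = 2 * a by rw [d.sum, hab]; omega] at h
  have hN : Nat.card (Subgroup.normalizer (P : Set G)) = a * q :=
    Nat.eq_of_mul_eq_mul_left (show 0 < 4 * a * b from
      Nat.mul_pos (Nat.mul_pos (by omega) d.toParams.a_pos) d.toParams.b_pos) (h.trans (by ring))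
  have hvN : v ∈ Subgroup.normalizer (P : Set G) := Subgroup.mem_normalizer_iff.2 fun u => ⟨hnorm u, fun hu => by
    have := hnorm _ hu
    rwa [show v * (v * u * v⁻¹) * v⁻¹ = (v * v) * u * (v * v)⁻¹ by group, hvv, one_mul, inv_one, mul_one] at this⟩
  have h3 := hN ▸ hv ▸ Subgroup.orderOf_dvd_natCard _ hvN
  exact Nat.not_even_iff_odd.2 (d.oddA.mul d.toParams.q_odd) (even_iff_two_dvd.2 h3)

end Data

end CfsgLib.Recog.ClassPSL
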